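import Groth.Agent.Lib.TensorMod.Basis
import Groth.Agent.Lib.TensorMod.HomGlue
import Groth.Agent.Lib.TensorMod.GenLocal
import Groth.Agent.Lib.DescAlg.PbSecHom
import Groth.Agent.Lib.Ample.GenLocus

/-!
# Morphisms out of the pullback of a module with a basis of sections
-/

set_option autoImplicit false
set_option linter.style.haveILetI false
universe u

open CategoryTheory CategoryTheory.Limits AlgebraicGeometry TopologicalSpace Opposite
open ZarCoh.FlatBC.PullbackSections

namespace Groth.Agent.Lib.Cyc.PB.Sect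

open Groth.Agent.Lib TensorMod TensorMod.Dual TensorMod.Gen TensorMod.Basis DescAlg.PbSec

variable {T X : Scheme.{u}} (g : T ⟶ X)

/-- Restricting before pulling back. -/
theorem pbRes_rs (M : X.Modules) {U U' : X.Opens} {W : T.Opens} (h : U' ≤ U) (e : W ≤ g ⁻¹ᵁ U')
    (m : Γ(M, U)) : pbRes g M e (rs M h m) = pbRes g M (e.trans (g.preimage_mono h)) m := by
  let P := ((Scheme.Modules.pullback g).obj M).presheaf
  have h1 := ConcreteCategory.congr_hom
    (((Scheme.Modules.pullbackPushforwardAdjunction g).unit.app M).mapPresheaf.naturality (homOfLE h).op) m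
  show P.map (homOfLE e).op _ = P.map (homOfLE (e.trans (g.preimage_mono h))).op _
  refine (congrArg (P.map (homOfLE e).op) h1).trans ?_
  show P.map _ (P.map _ _) = _
  rw [← ConcreteCategory.comp_apply, ← P.map_comp]
  rfl

theorem rs_pbRes (M : X.Modules) {U : X.Opens} {W W' : T.Opens} (e : W ≤ g ⁻¹ᵁ U) (h : W' ≤ W)
    (m : Γ(M, U)) :
    rs ((Scheme.Modules.pullback g).obj M) h (pbRes g M e m) = pbRes g M (h.trans e) m :=
  map_pbRes g M e h m

theorem isGen_pbRes {M : X.Modules} {U : X.Opens} {e : Γ(M, U)} (he : IsGen M U e) {W : T.Opens}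
    (hW : W ≤ g ⁻¹ᵁ U) : IsGen ((Scheme.Modules.pullback g).obj M) W (pbRes g M hW e) :=
  (Ample.GenLocus.isGen_unitSec g he).res hW

variable {E : X.Modules} {U : X.Opens} {n : ℕ} {e : Fin n → Γ(E, U)} (hg : (⊤ : T.Opens) ≤ g ⁻¹ᵁ U)

include hg in
theorem le_preimage_inf (V : X.Opens) : g ⁻¹ᵁ V ≤ g ⁻¹ᵁ (V ⊓ U) := fun _ hx => ⟨hx, hg trivial⟩

/-- A morphism out of `g^*E` is determined by the values on a basis. -/
theorem hom_ext_basis (he : IsBasis e) {N : T.Modules} {a b : (Scheme.Modules.pullback g).obj E ⟶ N}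
    (h : ∀ k, a.app ⊤ (pbRes g E hg (e k)) = b.app ⊤ (pbRes g E hg (e k))) : a = b := by
  refine DescAlg.PbSec.hom_ext g fun V m => ?_
  obtain ⟨c, hc⟩ := (he (V ⊓ U) inf_le_right).2 (rs E inf_le_left m)
  have e1 : pbRes g E (le_refl (g ⁻¹ᵁ V)) m =
      ∑ k, g.appLE (V ⊓ U) (g ⁻¹ᵁ V) (le_preimage_inf g hg V) (c k) •
        rs ((Scheme.Modules.pullback g).obj E) (le_top : g ⁻¹ᵁ V ≤ ⊤) (pbRes g E hg (e k)) := by
    have := congrArg (pbRes g E (le_preimage_inf g hg V)) hc
    rw [pbRes_rs] at this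
    rw [← this, comb, map_sum]
    refine Finset.sum_congr rfl fun k _ => ?_
    rw [pbRes_smul, pbRes_rs, rs_pbRes]
  rw [e1, map_sum, map_sum]
  refine Finset.sum_congr rfl fun k _ => ?_
  rw [Scheme.Modules.Hom.app_smul, Scheme.Modules.Hom.app_smul, ← HomGlue.rs_app, ← HomGlue.rs_app, h]

/-- Prescribing a morphism out of `g^*E` on a basis. -/
theorem exists_hom_basis (he : IsBasis e) {N : T.Modules} (v : Fin n → Γ(N, ⊤)) :
    ∃ s : (Scheme.Modules.pullback g).obj E ⟶ N, ∀ k, s.app ⊤ (pbRes g E hg (e k)) = v k := by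
  have hex : ∀ (V : X.Opens) (x : Γ(E, V)), ∃ c : Fin n → Γ(X, V ⊓ U),
      comb e inf_le_right c = rs E inf_le_left x := fun V x => (he (V ⊓ U) inf_le_right).2 _
  choose c hc using hex
  have huniq : ∀ (V : X.Opens) (x : Γ(E, V)) (c' : Fin n → Γ(X, V ⊓ U)),
      comb e inf_le_right c' = rs E inf_le_left x → c' = c V x := fun V x c' h =>
    (he (V ⊓ U) inf_le_right).1 (h.trans (hc V x).symm)
  let F : ∀ V : X.Opens, Γ(E, V) → Γ(N, g ⁻¹ᵁ V) := fun V x =>
    ∑ k, g.appLE (V ⊓ U) (g ⁻¹ᵁ V) (le_preimage_inf g hg V) (c V x k) •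
      rs N (le_top : g ⁻¹ᵁ V ≤ ⊤) (v k)
  have hadd : ∀ V x x', F V (x + x') = F V x + F V x' := fun V x x' => by
    have : c V x + c V x' = c V (x + x') := huniq V _ _ (by
      rw [HomGlue.rs_add, ← hc, ← hc]
      simp only [comb, Pi.add_apply, add_smul, Finset.sum_add_distrib])
    simp only [F, ← this, Pi.add_apply, map_add, add_smul, Finset.sum_add_distrib]
  have hsmul : ∀ V (r : Γ(X, V)) x, F V (r • x) = g.app V r • F V x := fun V r x => by
    have : (fun k => rf inf_le_left r * c V x k) = c V (r • x) := huniq V _ _ (by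
      rw [rs_smul, ← hc]
      simp only [comb, Finset.smul_sum, smul_smul])
    simp only [F, ← this, Finset.smul_sum, smul_smul, map_mul]
    refine Finset.sum_congr rfl fun k _ => congrArg (fun t => (t * _) • _) ?_
    show (X.presheaf.map (homOfLE _).op ≫ g.appLE (V ⊓ U) (g ⁻¹ᵁ V) _) r = _
    rw [Scheme.Hom.map_appLE, ← Scheme.Hom.app_eq_appLE]
  have hnat : ∀ (V W : X.Opens) (h : W ≤ V) x,
      rs N (g.preimage_mono h) (F V x) = F W (rs E h x) := fun V W h x => by
    have : (fun k => rf (inf_le_inf_right U h) (c V x k)) = c W (rs E h x) := huniq W _ _ (by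
      rw [← rs_comb e inf_le_right (inf_le_inf_right U h), hc, rs_rs, rs_rs])
    simp only [F, ← this]
    rw [rs_sum]
    refine Finset.sum_congr rfl fun k _ => ?_
    rw [rs_smul, rs_rs]
    refine congrArg (· • _) ?_
    show (g.appLE (V ⊓ U) (g ⁻¹ᵁ V) _ ≫ T.presheaf.map (homOfLE _).op) _ =
      (X.presheaf.map (homOfLE _).op ≫ g.appLE (W ⊓ U) (g ⁻¹ᵁ W) _) _
    rw [Scheme.Hom.appLE_map, Scheme.Hom.map_appLE]
  let ψ : E ⟶ (Scheme.Modules.pushforward g).obj N := SheafOfModules.Hom.mk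
    { app := fun V => ModuleCat.ofHom (X := E.val.obj V)
        (Y := ((Scheme.Modules.pushforward g).obj N).val.obj V)
        { toFun := F V.unop, map_add' := hadd V.unop, map_smul' := hsmul V.unop }
      naturality := fun {V W} i => ModuleCat.hom_ext (LinearMap.ext fun x =>
        (hnat V.unop W.unop i.unop.le x).symm) }
  refine ⟨((Scheme.Modules.pullbackPushforwardAdjunction g).homEquiv _ _).symm ψ, fun k => ?_⟩
  set s := ((Scheme.Modules.pullbackPushforwardAdjunction g).homEquiv _ _).symm ψ with hs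
  have h1 : ψ.app U (e k) =
      s.app (g ⁻¹ᵁ U) (((Scheme.Modules.pullbackPushforwardAdjunction g).unit.app E).app U (e k)) := by
    have : (Scheme.Modules.pullbackPushforwardAdjunction g).homEquiv _ _ s = ψ := Equiv.apply_symm_apply _ _
    conv_lhs => rw [← this, Adjunction.homEquiv_unit]
    rfl
  have h2 : ψ.app U (e k) = rs N (le_top : g ⁻¹ᵁ U ≤ ⊤) (v k) := by
    show F U (e k) = _
    have : (fun l => if l = k then 1 else 0) = c U (e k) := huniq U _ _ (by
      simp [comb, ite_smul])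
    simp only [F, ← this]
    simp [apply_ite, ite_smul]
  show s.app ⊤ (rs ((Scheme.Modules.pullback g).obj E) hg
    (((Scheme.Modules.pullbackPushforwardAdjunction g).unit.app E).app U (e k))) = v k
  rw [← HomGlue.rs_app, ← h1, h2, rs_rs]
  exact rs_self N _ _

/-- A morphism onto a freely generated module is split epi once it hits the generator. -/
theorem epi_of_app_eq {M L : T.Modules} (s : M ⟶ L) {x : Γ(L, ⊤)} (hx : IsGen L ⊤ x) {y : Γ(M, ⊤)}
    (h : s.app ⊤ y = x) : Epi s := by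
  have hcov : iSup (fun _ : PUnit.{u + 1} => (⊤ : T.Opens)) = ⊤ := iSup_const
  obtain ⟨t, ht⟩ := HomGlue.exists_hom_of_gen hcov (fun _ => x) (fun _ => hx) (fun _ => y)
    fun _ _ W _ _ c hc => by
      have h1 : (1 : Γ(T, W)) = c := (hx W le_top).1 (by
        show (1 : Γ(T, W)) • rs L le_top x = c • rs L le_top x
        rw [one_smul]; exact hc)
      rw [← h1, one_smul]
  refine (SplitEpi.mk t (HomGlue.hom_ext_gen hcov (fun _ => x) (fun _ => hx) fun _ => ?_)).epi
  show s.app ⊤ (t.app ⊤ x) = x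
  rw [ht PUnit.unit, h]

/-- Freely generated modules are isomorphic. -/
theorem exists_iso_of_gen_top {M L : T.Modules} {x : Γ(M, ⊤)} {y : Γ(L, ⊤)} (hx : IsGen M ⊤ x)
    (hy : IsGen L ⊤ y) : ∃ i : M ≅ L, i.hom.app ⊤ x = y := by
  have hcov : iSup (fun _ : PUnit.{u + 1} => (⊤ : T.Opens)) = ⊤ := iSup_const
  obtain ⟨i, hi⟩ := HomGlue.exists_iso_of_gen hcov (fun _ => x) (fun _ => hx) (fun _ => y) (fun _ => hy)
    fun _ _ W _ _ c hc => by
      have h1 : (1 : Γ(T, W)) = c := (hx W le_top).1 (by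
        show (1 : Γ(T, W)) • rs M le_top x = c • rs M le_top x
        rw [one_smul]; exact hc)
      rw [← h1, one_smul]
  exact ⟨i, hi PUnit.unit⟩

end Groth.Agent.Lib.Cyc.PB.Sect
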