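import Groth.Agent.Lib.Cyc.PB.FrameCyc

/-!
# Killing in the fibre, and the data
-/

set_option autoImplicit false
set_option linter.style.haveILetI false
universe u

open CategoryTheory CategoryTheory.Limits AlgebraicGeometry MvPolynomial

namespace Groth.Agent.Lib.Cyc.PB.Frame

open Groth.Agent.Lib Groth.Agent.Lib.Cyc

variable {P X : Scheme.{u}} {p : P ⟶ X} {L : P.Modules} {n : ℕ} {η : X} (F : Frame p L n η)
  {δP : P → ℤ} {δX : X → ℤ}

variable [IsLocallyNoetherian P] [IsLocallyNoetherian X]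

/-- `x` is a multiple of `ζ_i`, up to divisors on the fibre. -/
def KilledMod (δP : P → ℤ) (δX : X → ℤ) (x : P) : Prop :=
  ∃ (m : ℤ) (κ : Type u) (_ : Fintype κ) (ξ : κ → P) (g : ∀ l, P.residueField (ξ l)),
    (∀ l, p (ξ l) = η ∧ δP (ξ l) = δP x + 1 ∧ g l ≠ 0) ∧
    ∀ z, p z = η → ∑ l, Cyc.divFun δP (ξ l) (g l) z =
      Set.indicator {x} 1 z - m * Set.indicator {F.pt ((δX η + n - δP x).toNat)} 1 z

variable (hP : Cyc.IsDimFun P δP) (hX : Cyc.IsDimFun X δX) (hδ : Cyc.DeltaCompat p δP δX)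

omit [IsLocallyNoetherian P] [IsLocallyNoetherian X] in
theorem isDimFun_of_convex {W : Scheme.{u}} (c : W ⟶ P) [IsPreimmersion c]
    (H : ∀ a b z, c a ⤳ z → z ⤳ c b → ∃ w, c w = z) (hP : Cyc.IsDimFun P δP) :
    Cyc.IsDimFun W (fun a => δP (c a)) := by
  intro a b h hne
  obtain ⟨h1, h2⟩ := hP _ _ (h.map c.continuous) fun he => hne (c.isEmbedding.injective he)
  refine ⟨h1, fun Hab => h2 fun z haz hzb => ?_⟩
  obtain ⟨w, rfl⟩ := H a b z haz hzb
  rcases Hab w (c.isEmbedding.isInducing.specializes_iff.1 haz)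
      (c.isEmbedding.isInducing.specializes_iff.1 hzb) with rfl | rfl
  · exact Or.inl rfl
  · exact Or.inr rfl

omit [IsLocallyNoetherian P] [IsLocallyNoetherian X] in
theorem c_mem_e (j : ℕ) (l : Fin (n + 1)) (q : Spec (CommRingCat.of (MvPolynomial (Idx j l) F.K))) :
    F.c j l q ∈ Set.range (F.e l) :=
  ⟨Spec.map (CommRingCat.ofHom (F.ψ j l)) q, by rw [c, Scheme.Hom.comp_apply]⟩

omit [IsLocallyNoetherian P] [IsLocallyNoetherian X] in
theorem c_convex {j : ℕ} {l : Fin (n + 1)} (hl : j ≤ (l : ℕ))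
    (a b : Spec (CommRingCat.of (MvPolynomial (Idx j l) F.K))) (z : P)
    (haz : F.c j l a ⤳ z) (hzb : z ⤳ F.c j l b) : ∃ w, F.c j l w = z := by
  have hz : p z = η := by
    have s1 := haz.map p.continuous
    have s2 := hzb.map p.continuous
    rw [F.p_c] at s1 s2
    exact (s2.antisymm s1).eq
  exact F.exists_c_eq hz (hzb.mem_open (F.e l).isOpenEmbedding.isOpen_range (F.c_mem_e j l b))
    (fun k hk hzk => F.c_notMem hl hk a (haz.mem_open (F.e k).isOpenEmbedding.isOpen_range hzk))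

theorem killsAll_cell (j : ℕ) (l : Fin (n + 1)) :
    AffFib.Kill.KillsAll (Spec (CommRingCat.of (MvPolynomial (Idx j l) F.K))) := by
  haveI : IsLocallyNoetherian (Scheme.Spec.obj (Opposite.op (CommRingCat.of (MvPolynomial (Idx j l) F.K)))) :=
    inferInstanceAs (IsLocallyNoetherian (Spec (CommRingCat.of (MvPolynomial (Idx j l) F.K))))
  haveI : IsLocallyNoetherian (Scheme.Spec.obj (Opposite.op
      (CommRingCat.of (MvPolynomial (Fin (Fintype.card (Idx j l))) F.K)))) :=
    inferInstanceAs (IsLocallyNoetherian (Spec (CommRingCat.of (MvPolynomial (Fin (Fintype.card (Idx j l))) F.K))))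
  exact AffFib.Kill.KillsAll.of_iso (Scheme.Spec.mapIso
    ((renameEquiv F.K (Fintype.equivFin (Idx j l))).toRingEquiv.toCommRingCatIso.op))
    (AffFib.Affine.killsAll_mvPolynomial F.K _)

include hP hX hδ in
theorem killedMod [QuasiCompact p] : ∀ d j : ℕ, j + d = n + 1 → ∀ x : P, p x = η →
    (∀ k : Fin (n + 1), (k : ℕ) < j → x ∉ Set.range (F.e k)) → F.KilledMod δP δX x := by
  intro d
  induction d with
  | zero =>
    intro j hj x hx hlow
    obtain ⟨l, hl⟩ := F.cover x hx
    exact absurd hl (hlow l (by have := l.2; omega))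
  | succ d ih =>
    intro j hj x hx hlow
    have hjn : j ≤ n := by omega
    set J : Fin (n + 1) := ⟨j, by omega⟩
    by_cases hxJ : x ∈ Set.range (F.e J)
    swap
    · refine ih (j + 1) (by omega) x hx fun k hk => ?_
      rcases Nat.lt_succ_iff_lt_or_eq.1 hk with h | h
      · exact hlow k h
      · rw [show k = J from Fin.ext h]
        exact hxJ
    by_cases hpt : x = F.pt j
    · subst hpt
      refine ⟨1, PEmpty.{u + 1}, inferInstance, fun l => l.elim, fun l => l.elim, fun l => l.elim,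
        fun z _ => ?_⟩
      rw [F.delta_pt hP hδ hjn, show (δX η + n - (δX η + n - (j : ℤ))).toNat = j by omega]
      simp
    obtain ⟨a, rfl⟩ := F.exists_c_eq hx hxJ hlow
    have ha : ¬ DimFun.IsMaxPt a := fun ha => hpt (by
      rw [← ha _ (genericPoint_specializes a), F.pt_eq hjn])
    have hcell : Cyc.IsDimFun (Spec (CommRingCat.of (MvPolynomial (Idx j J) F.K)))
        (fun b => δP (F.c j J b)) := isDimFun_of_convex (F.c j J) (F.c_convex le_rfl) hP
    haveI : IsLocallyNoetherian (Spec (CommRingCat.of (MvPolynomial (Idx j J) F.K))) := inferInstance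
    have hk := F.killsAll_cell j J _ hcell a ha
    obtain ⟨κ, hκ, ξ, g, h1, h2⟩ := AffFib.Kill.exists_transfer (F.c j J) hP hcell hk
    obtain ⟨R, hR⟩ := Span.exists_cycle_of_family (δP := δP) hP (fun l => F.c j J (ξ l)) g
      fun _ => ⟨Set.univ, isOpen_univ, trivial, Set.toFinite _⟩
    simp only [finsum_eq_sum_of_fintype] at hR
    obtain ⟨_, ⟨V, hV, rfl⟩, hηV, -⟩ :=
      X.isBasis_affineOpens.exists_subset_of_mem_open (Set.mem_univ η) isOpen_univ
    have hfin : ((⇑p ⁻¹' V) ∩ Function.support ⇑R).Finite :=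
      R.locallyFiniteSupport.finite_inter_support_of_isCompact (p.isCompact_preimage hV.isCompact)
    classical
    let S : Finset P := hfin.toFinset.filter fun z => p z = η ∧ z ∉ Set.range (F.c j J)
    have hS : ∀ z : S, p z.1 = η ∧ δP z.1 = δP (F.c j J a) ∧
        ∀ k : Fin (n + 1), (k : ℕ) < j + 1 → z.1 ∉ Set.range (F.e k) := fun ⟨z, hz⟩ => by
      obtain ⟨hz, hpz, hzr⟩ := Finset.mem_filter.1 hz
      have hne : R z ≠ 0 := (hfin.mem_toFinset.1 hz).2
      rw [hR] at hne
      obtain ⟨l, -, hl⟩ := Finset.exists_ne_zero_of_sum_ne_zero hne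
      obtain ⟨hs, hd⟩ : F.c j J (ξ l) ⤳ z ∧ δP z + 1 = δP (F.c j J (ξ l)) := by
        by_contra hc
        exact hl (dif_neg hc)
      have hl' : ∀ k : Fin (n + 1), (k : ℕ) < j → z ∉ Set.range (F.e k) := by
        intro k hk hzk
        have h5 : F.c j J (ξ l) ∈ Set.range (F.e k) :=
          Specializes.mem_open hs (F.e k).isOpenEmbedding.isOpen_range hzk
        exact F.c_notMem (j := j) (l := J) (k := k) (Nat.le_refl j) hk (ξ l) h5
      refine ⟨hpz, by have := (h1 l).1; show δP z = _; omega, fun k hk => ?_⟩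
      rcases Nat.lt_succ_iff_lt_or_eq.1 hk with h | h
      · exact hl' k h
      · rw [show k = J from Fin.ext h]
        exact fun hzJ => hzr (F.exists_c_eq hpz hzJ hl')
    choose mz κz hκz ξz gz hgz hsz using fun z : S => ih (j + 1) (by omega) z.1 (hS z).1 (hS z).2.2
    letI := hκz
    letI := hκ
    let G : ∀ q : κ ⊕ (Σ z : S, κz z),
        P.residueField (Sum.elim (fun l => F.c j J (ξ l)) (fun w => ξz w.1 w.2) q) := fun q =>
      match q with
      | Sum.inl l => g l
      | Sum.inr w => gz w.1 w.2 ^ (-(R w.1.1))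
    refine ⟨-∑ z : S, R z.1 * mz z, κ ⊕ (Σ z : S, κz z), inferInstance,
      Sum.elim (fun l => F.c j J (ξ l)) (fun w => ξz w.1 w.2), G, ?_, fun z hz => ?_⟩
    · rintro (l | w)
      · exact ⟨F.p_c j J _, (h1 l).1, (h1 l).2⟩
      · exact ⟨(hgz w.1 w.2).1, by show δP (ξz w.1 w.2) = _; rw [(hgz w.1 w.2).2.1, (hS w.1).2.1],
          zpow_ne_zero _ (hgz w.1 w.2).2.2⟩
    set Z := Set.indicator {F.pt ((δX η + n - δP (F.c j J a)).toNat)} (1 : P → ℤ) z
    have hw : ∀ w : S, (∑ l, Cyc.divFun δP (ξz w l) (gz w l ^ (-(R w.1))) z) =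
        -(R w.1) * (Set.indicator {w.1} (1 : P → ℤ) z - mz w * Z) := fun w => by
      simp only [C1.divFun_zpow hP _ _ (hgz w _).2.2, Pi.smul_apply, smul_eq_mul]
      rw [← Finset.mul_sum]
      refine congrArg (-(R w.1) * ·) ((hsz w z hz).trans ?_)
      rw [(hS w).2.1]
    rw [Fintype.sum_sum_type, Fintype.sum_sigma]
    show ∑ l, Cyc.divFun δP (F.c j J (ξ l)) (g l) z +
      ∑ w : S, ∑ l, Cyc.divFun δP (ξz w l) (gz w l ^ (-(R w.1))) z = _
    rw [Finset.sum_congr rfl fun w _ => hw w, ← hR]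
    simp only [mul_sub, Finset.sum_sub_distrib, neg_mul, Finset.sum_neg_distrib]
    have e2 : ∑ w : S, R w.1 * (mz w * Z) = (∑ w : S, R w.1 * mz w) * Z := by
      rw [Finset.sum_mul]
      exact Finset.sum_congr rfl fun w _ => by ring
    rw [e2]
    have e1 : R z - ∑ w : S, R w.1 * Set.indicator {w.1} (1 : P → ℤ) z =
        Set.indicator {F.c j J a} (1 : P → ℤ) z := by
      rw [Finset.sum_coe_sort S (fun w => R w * Set.indicator {w} (1 : P → ℤ) z)]
      by_cases hr : z ∈ Set.range (F.c j J)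
      · obtain ⟨b, rfl⟩ := hr
        rw [Finset.sum_eq_zero fun w hw => ?_, sub_zero, hR, h2 b]
        · rw [Set.indicator_of_notMem fun e => (Finset.mem_filter.1 hw).2.2
            ⟨b, Set.mem_singleton_iff.1 e⟩, mul_zero]
      · have hza : z ≠ F.c j J a := fun e => hr ⟨a, e.symm⟩
        rw [Set.indicator_of_notMem (s := ({F.c j J a} : Set P)) hza, Finset.sum_eq_single z]
        · rw [Set.indicator_of_mem (Set.mem_singleton z), Pi.one_apply, mul_one, sub_self]
        · intro w _ hne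
          rw [Set.indicator_of_notMem fun e => hne (Set.mem_singleton_iff.1 e).symm, mul_zero]
        · intro hzS
          have : R z = 0 := by_contra fun h => hzS (Finset.mem_filter.2
            ⟨hfin.mem_toFinset.2 ⟨by show p z ∈ V; rw [hz]; exact hηV, h⟩, hz, hr⟩)
          rw [this, zero_mul]
    rw [← e1]
    ring

end Groth.Agent.Lib.Cyc.PB.Frame

namespace Groth.Agent.Lib.Cyc.PB

open Groth.Agent.Lib Groth.Agent.Lib.Cyc

/-- Frames everywhere give the flag data. -/
theorem exists_data {P X : Scheme.{u}} [IsLocallyNoetherian P] [IsLocallyNoetherian X] {p : P ⟶ X}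
    [QuasiCompact p] {δP : P → ℤ} {δX : X → ℤ} {n : ℕ} {L : P.Modules} (hP : Cyc.IsDimFun P δP)
    (hX : Cyc.IsDimFun X δX) (hδ : Cyc.DeltaCompat p δP δX) (hL : PicF.IsInvertible L)
    (h : ∀ η, Nonempty (Frame p L n η)) : Nonempty (Data p δP δX n L) := by
  classical
  let hF : ∀ η, Frame p L n η := fun η => (h η).some
  refine ⟨{
    ζ := fun η i => (hF η).pt i
    fζ := fun η i _ => (hF η).p_pt i
    dζ := fun η i hi => (hF η).delta_pt hP hδ hi
    len := fun η => ((hF η).len_and_delta hP hδ).1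
    gen := fun x => (hF (p x)).pt_specializes (Nat.zero_le n) rfl fun k hk => absurd hk (by omega)
    deg := fun η => (hF η).residueDegree_pt
    t := fun η i => if hi : i ≤ n then (hF η).sec hi else 0
    t_ne := fun η i hi => by rw [dif_pos hi]; exact (hF η).sec_ne_zero hL hi
    div := fun η i hi x hx => by rw [dif_pos hi]; exact (hF η).secDiv hP hδ hL hi hx
    kill := fun x => by
      obtain ⟨m, κ, hκ, ξ, g, h1, h2⟩ := (hF (p x)).killedMod hP hX hδ (n + 1) 0 (zero_add _) x rfl
        fun k hk => absurd hk (by omega)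
      exact ⟨m, κ, hκ, ξ, g, h1, h2⟩ }⟩

end Groth.Agent.Lib.Cyc.PB
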