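import Groth.Agent.Lib.Cyc.PB.Data
import Groth.Agent.Lib.Cyc.PP.Main
import Groth.Agent.Lib.Cyc.FP.Rat

/-!
# Push forward of caps, independence and generation
-/

set_option autoImplicit false
set_option linter.style.haveILetI false
universe u

open CategoryTheory AlgebraicGeometry

namespace Groth.Agent.Lib.Cyc.PB.Thms

open Groth.Agent.Lib Groth.Agent.Lib.Cyc Groth.Agent.Lib.Cyc.PB
open Groth.Agent.Lib.Cyc.PB.Chain (IsChain)

variable {P X : Scheme.{u}} [IsLocallyNoetherian P] [IsLocallyNoetherian X] {f : P ⟶ X}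
  {δP : P → ℤ} {δX : X → ℤ} {n : ℕ} {L : P.Modules} (D : Data f δP δX n L)
  (hP : Cyc.IsDimFun P δP) (hX : Cyc.IsDimFun X δX) (hL : PicF.IsInvertible L)

include D hP hX hL in
/-- The standard chain of a cycle. -/
theorem exists_std [QuasiCompact f] {k : ℤ} {α : AlgebraicCycle X ℤ} (hα : α ∈ Cyc.Zk X δX k) :
    ∃ (s : (ξ : P) → Cyc.secFibre L ξ) (c : ℕ → AlgebraicCycle P ℤ), (∀ ξ, s ξ ≠ 0) ∧
      ⇑(c 0) = Cyc.pullFun f δP δX n ⇑α ∧ IsChain δP L (k + n) (fun _ => s) c ∧
      ∀ (i : ℕ) (x : P), (c i x ≠ 0 → δX (f x) ≤ k) ∧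
        (δX (f x) = k → (i ≤ n ∧ D.ζ (f x) i = x → c i x = α (f x)) ∧
          (¬(i ≤ n ∧ D.ζ (f x) i = x) → c i x = 0)) := by
  obtain ⟨s, hs, hdiv⟩ := D.exists_sec hL
  obtain ⟨a, ha, ha'⟩ := D.exists_pull hP hα
  obtain ⟨c, hc0, hc⟩ := Chain.exists_chain hP hL ha (fun _ => s) (fun _ => hs)
  refine ⟨s, c, hs, by rw [hc0, ha'], hc, fun i x => ?_⟩
  obtain ⟨h1, h2⟩ := D.cap_eq hP hX hα hdiv (c := c) (by rw [hc0, ha']) hc.succ i x
  exact ⟨h1, fun hk => ⟨fun h => (h2 hk).trans (if_pos h), fun h => (h2 hk).trans (if_neg h)⟩⟩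

variable [IsProper f] (hδ : Cyc.DeltaCompat f δP δX)

include D hP hX hL hδ in
/-- `f_*(c₁(L)^s ∩ f^*α)`. -/
theorem map_chain {k : ℤ} {α : AlgebraicCycle X ℤ} (hα : α ∈ Cyc.Zk X δX k)
    {t : ℕ → (ξ : P) → Cyc.secFibre L ξ} (ht : ∀ i ξ, t i ξ ≠ 0) {c : ℕ → AlgebraicCycle P ℤ}
    (h0 : ⇑(c 0) = Cyc.pullFun f δP δX n ⇑α) (hc : IsChain δP L (k + n) t c) (s : ℕ) :
    (s < n → Cyc.RatEquivZero δX (k + n - s) (AlgebraicCycle.map f δP δX (c s))) ∧
      (s = n → Cyc.RatEquiv δX k (AlgebraicCycle.map f δP δX (c s)) α) := by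
  obtain ⟨σ, c', hσ, h0', hc', hval⟩ := exists_std D hP hX hL hα
  have e0 : c 0 = c' 0 := Function.locallyFinsuppWithin.ext fun x => by rw [h0, h0']
  have hr : Cyc.RatEquiv δP (k + n - s) (c s) (c' s) :=
    Chain.ratEquiv hP hL ht (fun _ => hσ) hc hc' (e0 ▸ Ord.ratEquiv_refl δP _ _) s
  have hm : Cyc.RatEquivZero δX (k + n - s) (AlgebraicCycle.map f δP δX (c s - c' s)) :=
    PP.Main.ratEquivZero_map f hP hX hδ hr
  have hsub : AlgebraicCycle.map f δP δX (c s - c' s) =
      AlgebraicCycle.map f δP δX (c s) - AlgebraicCycle.map f δP δX (c' s) :=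
    Function.locallyFinsuppWithin.ext fun y => PP.Div.map_sub_apply f _ _ y
  rw [hsub] at hm
  have hcoef : s ≤ n → ∀ y x, f x = y → c' s x * (AlgebraicCycle.mapCoeff f δP δX x : ℤ) ≠ 0 →
      s = n ∧ δX y = k ∧ D.ζ y s = x := fun hsn y x hx h => by
    have h1 : δP x = δX (f x) := by
      by_contra hne
      exact right_ne_zero_of_mul h (by simp [AlgebraicCycle.mapCoeff, hne])
    have h2 : δP x = k + n - s := by
      by_contra hne
      exact left_ne_zero_of_mul h (hc'.mem s x hne)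
    have h3 := (hval s x).1 (left_ne_zero_of_mul h)
    subst hx
    have hk : δX (f x) = k := by omega
    obtain ⟨hv, hv'⟩ := (hval s x).2 hk
    by_cases hz : s ≤ n ∧ D.ζ (f x) s = x
    · exact ⟨by omega, hk, hz.2⟩
    · exact absurd (hv' hz) (left_ne_zero_of_mul h)
  constructor
  · intro hs
    have hzero : AlgebraicCycle.map f δP δX (c' s) = 0 :=
      Function.locallyFinsuppWithin.ext fun y => by
        rw [Push.map_apply]
        exact finsum_mem_eq_zero_of_forall_eq_zero fun x hx => by_contra fun h =>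
          hs.ne (hcoef hs.le y x hx h).1
    rwa [hzero, sub_zero] at hm
  · rintro rfl
    have heq : AlgebraicCycle.map f δP δX (c' s) = α :=
      Function.locallyFinsuppWithin.ext fun y => by
        rw [Push.map_apply]
        by_cases hy : δX y = k
        · rw [show (∑ᶠ x ∈ ⇑f ⁻¹' {y}, c' s x * (AlgebraicCycle.mapCoeff f δP δX x : ℤ)) =
              c' s (D.ζ y s) * (AlgebraicCycle.mapCoeff f δP δX (D.ζ y s) : ℤ) from by
            rw [finsum_mem_def, finsum_eq_single _ (D.ζ y s), Set.indicator_of_mem]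
            · exact D.fζ y s le_rfl
            · intro x hne
              refine Set.indicator_apply_eq_zero.2 fun hx => by_contra fun h => ?_
              exact hne (hcoef le_rfl y x hx h).2.2.symm]
          obtain ⟨hv, -⟩ := (hval s (D.ζ y s)).2 (by rw [D.fζ y s le_rfl, hy])
          rw [hv ⟨le_rfl, by rw [D.fζ y s le_rfl]⟩, D.fζ y s le_rfl, AlgebraicCycle.mapCoeff,
            if_pos (show δP (D.ζ y s) = δX (f (D.ζ y s)) by rw [D.dζ y s le_rfl, D.fζ y s le_rfl]; ring),
            D.deg y, Nat.cast_one, mul_one]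
        · rw [hα y hy]
          exact finsum_mem_eq_zero_of_forall_eq_zero fun x hx => by_contra fun h =>
            hy (hcoef le_rfl y x hx h).2.1
    rw [heq, add_sub_cancel_right] at hm
    exact hm

include D hP hX hL hδ in
/-- Independence. -/
theorem ratEquivZero_of_sum [Flat f] {k : ℤ} (α : Fin (n + 1) → AlgebraicCycle X ℤ)
    (hα : ∀ i : Fin (n + 1), α i ∈ Cyc.Zk X δX (k + ((i : ℕ) : ℤ))) (t : Fin (n + 1) → ℕ → (ξ : P) → Cyc.secFibre L ξ)
    (ht : ∀ i m ξ, t i m ξ ≠ 0) (c : Fin (n + 1) → ℕ → AlgebraicCycle P ℤ)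
    (h0 : ∀ i, ⇑(c i 0) = Cyc.pullFun f δP δX n ⇑(α i))
    (hc : ∀ i : Fin (n + 1), IsChain δP L (k + (i : ℕ) + n) (t i) (c i))
    (hsum : Cyc.RatEquivZero δP (k + n) (∑ i, c i (i : ℕ))) :
    ∀ i : Fin (n + 1), Cyc.RatEquivZero δX (k + ((i : ℕ) : ℤ)) (α i) := by
  classical
  suffices h : ∀ d : ℕ, ∀ j : Fin (n + 1), n - (j : ℕ) = d → Cyc.RatEquivZero δX (k + (j : ℕ)) (α j) from
    fun i => h _ i rfl
  intro d
  induction d using Nat.strong_induction_on with
  | _ d ih =>
    intro j hj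
    choose σ c' hσ h0' hc' hval using fun i => exists_std D hP hX hL (hα i)
    let u : ℕ → (ξ : P) → Cyc.secFibre L ξ := fun _ => σ 0
    have hu : ∀ m ξ, u m ξ ≠ 0 := fun _ => hσ 0
    have hmem : ∀ i : Fin (n + 1), c i (i : ℕ) ∈ Cyc.Zk P δP (k + n) := fun i => by
      have h1 := (hc i).mem (i : ℕ)
      rwa [show k + ((i : ℕ) : ℤ) + n - ((i : ℕ) : ℤ) = k + n by ring] at h1
    choose e he0 he using fun i => Chain.exists_chain hP hL (hmem i) u hu
    have hE := Chain.isChain_sum e Finset.univ fun i _ => he i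
    have h1 : Cyc.RatEquivZero δP (k + n - d) (∑ i, e i d) := by
      have h2 := Chain.ratEquiv hP hL hu hu hE (Chain.isChain_zero u) (by
        rw [Cyc.RatEquiv, sub_zero]
        simpa [he0] using hsum) d
      rwa [Cyc.RatEquiv, sub_zero] at h2
    have hmapsum : ∀ s : Finset (Fin (n + 1)), AlgebraicCycle.map f δP δX (∑ i ∈ s, e i d) =
        ∑ i ∈ s, AlgebraicCycle.map f δP δX (e i d) := fun s => by
      induction s using Finset.induction_on with
      | empty =>
        simp only [Finset.sum_empty]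
        exact Function.locallyFinsuppWithin.ext fun y => by simp [Push.map_apply]
      | insert a s ha ih =>
        rw [Finset.sum_insert ha, Finset.sum_insert ha, ← ih]
        refine Function.locallyFinsuppWithin.ext fun y => ?_
        have := PP.Div.map_sub_apply (δX := δP) (δY := δX) f (e a d + ∑ i ∈ s, e i d) (∑ i ∈ s, e i d) y
        rw [add_sub_cancel_right] at this
        rw [Function.locallyFinsuppWithin.coe_add, Pi.add_apply]
        omega
    have hk : k + n - (d : ℤ) = k + ((j : ℕ) : ℤ) := by have := j.2; omega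
    have hdn : (j : ℕ) + d = n := by have := j.2; omega
    have hm := PP.Main.ratEquivZero_map f hP hX hδ h1
    rw [hmapsum, hk] at hm
    -- each summand
    have hterm : ∀ i : Fin (n + 1),
        Cyc.RatEquiv δP (k + ((j : ℕ) : ℤ)) (e i d) (c' i ((i : ℕ) + d)) := fun i => by
      have r0 : Cyc.RatEquiv δP (k + n) (c i (i : ℕ)) (c' i (i : ℕ)) := by
        have := Chain.ratEquiv hP hL (ht i) (fun _ => hσ i) (hc i) (hc' i)
          (by rw [show c i 0 = c' i 0 from Function.locallyFinsuppWithin.ext fun x => by rw [h0, h0']]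
              exact Ord.ratEquiv_refl δP _ _) (i : ℕ)
        rwa [show k + ((i : ℕ) : ℤ) + n - ((i : ℕ) : ℤ) = k + n by ring] at this
      have hs : IsChain δP L (k + n) (fun _ => σ i) fun l => c' i ((i : ℕ) + l) := by
        have := (hc' i).shift (i : ℕ)
        rwa [show k + ((i : ℕ) : ℤ) + n - ((i : ℕ) : ℤ) = k + n by ring] at this
      have := Chain.ratEquiv hP hL hu (fun _ => hσ i) (he i) hs (by simpa [he0] using r0) d
      rwa [hk] at this
    have hkey : ∀ i : Fin (n + 1), i ≠ j →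
        Cyc.RatEquivZero δX (k + ((j : ℕ) : ℤ)) (AlgebraicCycle.map f δP δX (e i d)) := fun i hij => by
      have r1 := PP.Main.ratEquivZero_map f hP hX hδ (hterm i)
      have r2 : Cyc.RatEquivZero δX (k + ((j : ℕ) : ℤ))
          (AlgebraicCycle.map f δP δX (c' i ((i : ℕ) + d))) := by
        rcases lt_or_gt_of_ne (Fin.val_ne_of_ne hij) with hlt | hgt
        · have := (map_chain D hP hX hL hδ (hα i) (fun _ => hσ i) (h0' i) (hc' i) ((i : ℕ) + d)).1
            (by omega)
          rwa [show k + ((i : ℕ) : ℤ) + n - (((i : ℕ) + d : ℕ) : ℤ) = k + ((j : ℕ) : ℤ) by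
            push_cast; omega] at this
        · have hz := ih (n - (i : ℕ)) (by omega) i rfl
          have hS : FP.Main.Shift f δP δX n := fun x hx => by
            have e1 := hx _ (D.fζ (f x) 0 (Nat.zero_le n)) (D.gen x)
            conv_lhs => rw [← e1, D.dζ (f x) 0 (Nat.zero_le n)]
            simp
          have r3 : Cyc.RatEquiv δP (k + ((i : ℕ) : ℤ) + n) (c' i 0) 0 :=
            FP.Rat.ratEquiv_pull f hP hX hS (β := 0) (by rwa [Cyc.RatEquiv, sub_zero]) (c' i 0) 0
              (h0' i) (funext fun z => by simp [FibLen.pullFun_apply])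
          have r4 := Chain.ratEquiv hP hL (fun _ => hσ i) (fun _ => hσ i) (hc' i)
            (Chain.isChain_zero fun _ => σ i) r3 ((i : ℕ) + d)
          rw [Cyc.RatEquiv, sub_zero] at r4
          have := PP.Main.ratEquivZero_map f hP hX hδ r4
          rwa [show k + ((i : ℕ) : ℤ) + n - (((i : ℕ) + d : ℕ) : ℤ) = k + ((j : ℕ) : ℤ) by
            push_cast; omega] at this
      have := Ord.ratEquivZero_add r1 r2
      rwa [show AlgebraicCycle.map f δP δX (e i d - c' i ((i : ℕ) + d)) +
          AlgebraicCycle.map f δP δX (c' i ((i : ℕ) + d)) = AlgebraicCycle.map f δP δX (e i d) from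
        Function.locallyFinsuppWithin.ext fun y => by
          simp [PP.Div.map_sub_apply]] at this
    have hj' : Cyc.RatEquiv δX (k + ((j : ℕ) : ℤ)) (AlgebraicCycle.map f δP δX (e j d)) (α j) := by
      have r1 := PP.Main.ratEquivZero_map f hP hX hδ (hterm j)
      have r2 := (map_chain D hP hX hL hδ (hα j) (fun _ => hσ j) (h0' j) (hc' j) ((j : ℕ) + d)).2 hdn
      have := Ord.ratEquivZero_add r1 r2
      rwa [show AlgebraicCycle.map f δP δX (e j d - c' j ((j : ℕ) + d)) +
          (AlgebraicCycle.map f δP δX (c' j ((j : ℕ) + d)) - α j) =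
            AlgebraicCycle.map f δP δX (e j d) - α j from
        Function.locallyFinsuppWithin.ext fun y => by
          simp [PP.Div.map_sub_apply]] at this
    have hrest : Cyc.RatEquivZero δX (k + ((j : ℕ) : ℤ))
        (∑ i ∈ Finset.univ.erase j, AlgebraicCycle.map f δP δX (e i d)) :=
      Finset.sum_induction _ _ (fun a b => Ord.ratEquivZero_add) (Ord.ratEquivZero_zero _ _)
        fun i hi => hkey i (Finset.ne_of_mem_erase hi)
    rw [← Finset.add_sum_erase _ _ (Finset.mem_univ j)] at hm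
    have := Ord.ratEquivZero_add (Ord.ratEquivZero_add hm (Ord.ratEquivZero_neg hX hrest))
      (Ord.ratEquivZero_neg hX hj')
    rwa [show AlgebraicCycle.map f δP δX (e j d) +
        ∑ i ∈ Finset.univ.erase j, AlgebraicCycle.map f δP δX (e i d) +
        -(∑ i ∈ Finset.univ.erase j, AlgebraicCycle.map f δP δX (e i d)) +
        -(AlgebraicCycle.map f δP δX (e j d) - α j) = α j by abel] at this

end Groth.Agent.Lib.Cyc.PB.Thms
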