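import Groth.Agent.Lib.Cyc.PB.Univ
import Groth.Agent.Lib.Cyc.PB.FrameKill
import Groth.Agent.Lib.Cyc.PB.Thms
import Groth.Prelude.Def_ChowOps2

/-!
# Chern caps on a projective bundle given by its universal property
-/

set_option autoImplicit false
set_option linter.style.haveILetI false
universe u

open CategoryTheory CategoryTheory.Limits AlgebraicGeometry TopologicalSpace Opposite

namespace Groth.Agent.Lib.Cyc.PB.Chern

open Groth.Agent.Lib Groth.Agent.Lib.Cyc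

variable {X P : Scheme.{u}} {π : P ⟶ X} {E : X.Modules} {O1 : P.Modules}
  {q : (Scheme.Modules.pullback π).obj E ⟶ O1}

theorem exists_data [IsLocallyNoetherian X] [IsLocallyNoetherian P] [QuasiCompact π] {δP : P → ℤ}
    {δ : X → ℤ} (hX : Cyc.IsDimFun X δ) (hPd : Cyc.IsDimFun P δP) (hδ : Cyc.DeltaCompat π δP δ)
    (hP : KRR.IsProjBundle π E O1 q) {n : ℕ} (hE : FlatMod.IsFinLocFreeOfRank (n + 1) E) :
    Nonempty (Data π δP δ n O1) :=
  PB.exists_data hPd hX hδ (Univ.invertible hP) fun η => Univ.nonempty_frame hP hE η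

/-- A projective bundle is flat. -/
theorem flat (hP : KRR.IsProjBundle π E O1 q) {n : ℕ} (hE : FlatMod.IsFinLocFreeOfRank (n + 1) E) :
    Flat π := by
  refine Flat.of_stalkMap π fun x => ?_
  obtain ⟨η, hη⟩ : ∃ η, π x = η := ⟨_, rfl⟩
  obtain ⟨F⟩ := Univ.nonempty_frame hP hE η
  obtain ⟨l, w, rfl⟩ := F.cover x hη
  set g := F.e l
  haveI : Flat (Spec.map (CommRingCat.ofHom
      (MvPolynomial.C : F.A →+* MvPolynomial (Var l) F.A))) := by
    rw [HasRingHomProperty.Spec_iff (P := @Flat)]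
    exact (RingHom.flat_algebraMap_iff (R := F.A) (S := MvPolynomial (Var l) F.A)).2 inferInstance
  haveI : Flat (g ≫ π) := by
    rw [F.w l]
    infer_instance
  have h := Flat.stalkMap (g ≫ π) w
  rw [Scheme.Hom.stalkMap_comp] at h
  have h2 : (inv (g.stalkMap w)).hom.Flat :=
    RingHom.Flat.of_bijective (ConcreteCategory.bijective_of_isIso _)
  have h3 := RingHom.Flat.comp h h2
  have h4 : (π.stalkMap (g w)).hom.Flat := by
    rw [show π.stalkMap (g w) = (π.stalkMap (g w) ≫ g.stalkMap w) ≫ inv (g.stalkMap w) by simp]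
    exact h3
  exact h4

section Linear

variable {Y : Scheme.{u}} [IsLocallyNoetherian Y] {δ : Y → ℤ} {L : Y.Modules} {m : ℤ}
  {t : ℕ → (ξ : Y) → Cyc.secFibre L ξ} {c c' : ℕ → AlgebraicCycle Y ℤ}

theorem cap_zsmul (a : ℤ) (α : AlgebraicCycle Y ℤ) (s : (ξ : Y) → Cyc.secFibre L ξ) (x : Y) :
    Cyc.c1CapFun δ L ⇑(a • α) s x = a * Cyc.c1CapFun δ L ⇑α s x := by
  simp only [Cyc.c1CapFun]
  rw [mul_finsum' _ _ (C1Indep.finite_support_mul α _ x fun ζ hζ => dif_neg fun h => hζ h.1)]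
  exact finsum_congr fun ζ => by
    rw [Function.locallyFinsuppWithin.coe_zsmul, Pi.smul_apply, smul_eq_mul, mul_assoc]

theorem IsChain.zsmul (a : ℤ) (h : Chain.IsChain δ L m t c) :
    Chain.IsChain δ L m t fun i => a • c i := by
  refine ⟨fun i x hx => ?_, fun i => funext fun x => ?_⟩
  · show (a • c i) x = 0
    rw [Function.locallyFinsuppWithin.coe_zsmul, Pi.smul_apply, h.mem i x hx, smul_zero]
  · rw [cap_zsmul, Function.locallyFinsuppWithin.coe_zsmul, Pi.smul_apply, h.succ, smul_eq_mul]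

theorem IsChain.sub (h : Chain.IsChain δ L m t c) (h' : Chain.IsChain δ L m t c') :
    Chain.IsChain δ L m t fun i => c i - c' i := by
  have := h.add (IsChain.zsmul (-1) h')
  simpa [sub_eq_add_neg] using this

/-- The chain starting from a cycle computes `c1PowFun`. -/
theorem IsChain.eq_powFun (h : Chain.IsChain δ L m t c) :
    ∀ i, ⇑(c i) = Cyc.c1PowFun δ L t i ⇑(c 0) := by
  intro i
  induction i with
  | zero => rfl
  | succ i ih => rw [h.succ, ih]; rfl

end Linear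

variable [IsLocallyNoetherian X] [IsLocallyNoetherian P] {δP : P → ℤ} {δ : X → ℤ} {n : ℕ}
  (hX : Cyc.IsDimFun X δ) (hPd : Cyc.IsDimFun P δP) (D : Data π δP δ n O1)
  (hL : PicF.IsInvertible O1)

/-- The cycle of the defining relation, computed by chains. -/
noncomputable def relCycle (c : Fin (n + 2) → ℕ → AlgebraicCycle P ℤ) : AlgebraicCycle P ℤ :=
  ∑ i : Fin (n + 2), ((-1 : ℤ) ^ (i : ℕ)) • c i (i : ℕ)

theorem relCycle_apply (c : Fin (n + 2) → ℕ → AlgebraicCycle P ℤ) (y : P) :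
    relCycle c y = ∑ i : Fin (n + 2), (-1 : ℤ) ^ (i : ℕ) * c i (i : ℕ) y := by
  rw [relCycle, Function.locallyFinsuppWithin.coe_sum, Finset.sum_apply]
  exact Finset.sum_congr rfl fun i _ => by
    rw [Function.locallyFinsuppWithin.coe_zsmul, Pi.smul_apply, smul_eq_mul]

include hPd D hL in
/-- The defining relation of a Chern cap, through chains. -/
theorem exists_rel [QuasiCompact π] {k : ℤ} {α : AlgebraicCycle X ℤ}
    {γ : Fin (n + 2) → AlgebraicCycle X ℤ} (hγ : Cyc.IsChernCap π δ δP O1 (n + 1) k α γ)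
    (t : ℕ → (ξ : P) → Cyc.secFibre O1 ξ) (ht : ∀ i ξ, t i ξ ≠ 0) :
    ∃ c : Fin (n + 2) → ℕ → AlgebraicCycle P ℤ,
      (∀ i, ⇑(c i 0) = Cyc.pullFun π δP δ n ⇑(γ (Fin.rev i))) ∧
      (∀ i : Fin (n + 2), Chain.IsChain δP O1 (k - 1 + (i : ℕ)) t (c i)) ∧
      Cyc.RatEquivZero δP (k - 1) (relCycle c) := by
  obtain ⟨-, hmem, hrel⟩ := hγ
  choose a ha ha' using fun i : Fin (n + 2) => D.exists_pull hPd (hmem (Fin.rev i))
  have hdeg : ∀ i : Fin (n + 2), k - ((Fin.rev i : ℕ) : ℤ) + n = k - 1 + (i : ℕ) := fun i => by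
    have := i.2
    rw [Fin.val_rev]
    omega
  choose c hc0 hc using fun i => Chain.exists_chain hPd hL (hdeg i ▸ ha i) t ht
  refine ⟨c, fun i => by rw [hc0, ha'], hc, hrel t ht _ fun y => ?_⟩
  rw [relCycle_apply, show ((n + 1 : ℕ) : ℤ) - 1 = (n : ℤ) by push_cast; ring]
  exact Finset.sum_congr rfl fun i _ => by rw [IsChain.eq_powFun (hc i), hc0, ha']

theorem ratEquivZero_pow {Y : Scheme.{u}} [IsLocallyNoetherian Y] {δY : Y → ℤ} (hY : Cyc.IsDimFun Y δY)
    {k : ℤ} {a : AlgebraicCycle Y ℤ} (i : ℕ) (h : Cyc.RatEquivZero δY k (((-1 : ℤ) ^ i) • a)) :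
    Cyc.RatEquivZero δY k a := by
  rcases neg_one_pow_eq_or ℤ i with e | e <;> rw [e] at h
  · rwa [one_smul] at h
  · rw [neg_one_zsmul] at h
    simpa using Ord.ratEquivZero_neg hY h

theorem zsmul_mem {Y : Scheme.{u}} {δY : Y → ℤ} {k : ℤ} (a : ℤ) {b b' : AlgebraicCycle Y ℤ}
    (hb : b ∈ Cyc.Zk Y δY k) (hb' : b' ∈ Cyc.Zk Y δY k) : a • (b - b') ∈ Cyc.Zk Y δY k := fun y hy => by
  show (a • (b - b')) y = 0
  rw [Function.locallyFinsuppWithin.coe_zsmul, Pi.smul_apply, Function.locallyFinsuppWithin.coe_sub,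
    Pi.sub_apply, hb y hy, hb' y hy, sub_zero, smul_zero]

include hX hPd D hL in
/-- Chern caps are well defined up to rational equivalence. -/
theorem uniq [IsProper π] [Flat π] (hδ : Cyc.DeltaCompat π δP δ) {k : ℤ} {α α' : AlgebraicCycle X ℤ}
    {γ γ' : Fin (n + 2) → AlgebraicCycle X ℤ} (hγ : Cyc.IsChernCap π δ δP O1 (n + 1) k α γ)
    (hγ' : Cyc.IsChernCap π δ δP O1 (n + 1) k α' γ') (h : Cyc.RatEquiv δ k α α')
    (j : Fin (n + 2)) : Cyc.RatEquiv δ (k - ((j : ℕ) : ℤ)) (γ j) (γ' j) := by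
  obtain ⟨s, hs, -⟩ := D.exists_sec hL
  let t : ℕ → (ξ : P) → Cyc.secFibre O1 ξ := fun _ => s
  have ht : ∀ i ξ, t i ξ ≠ 0 := fun _ => hs
  obtain ⟨c, hc0, hc, hr⟩ := exists_rel hPd D hL hγ t ht
  obtain ⟨c', hc0', hc', hr'⟩ := exists_rel hPd D hL hγ' t ht
  let d : Fin (n + 2) → ℕ → AlgebraicCycle P ℤ := fun i m => ((-1 : ℤ) ^ (i : ℕ)) • (c i m - c' i m)
  have hd : ∀ i : Fin (n + 2), Chain.IsChain δP O1 (k - 1 + (i : ℕ)) t (d i) := fun i =>
    IsChain.zsmul _ (IsChain.sub (hc i) (hc' i))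
  have hsum : Cyc.RatEquivZero δP (k - 1) (∑ i, d i (i : ℕ)) := by
    have := Ord.ratEquivZero_add hr (Ord.ratEquivZero_neg hPd hr')
    rwa [show (∑ i, d i (i : ℕ)) = relCycle c + -relCycle c' by
      simp only [d, relCycle, smul_sub, Finset.sum_sub_distrib]; abel]
  -- the last term is killed
  have hlast : Cyc.RatEquivZero δP (k - 1) (d (Fin.last (n + 1)) (n + 1)) := by
    have hS : FP.Main.Shift π δP δ n := fun x hx => by
      have e1 := hx _ (D.fζ (π x) 0 (Nat.zero_le n)) (D.gen x)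
      conv_lhs => rw [← e1, D.dζ (π x) 0 (Nat.zero_le n)]
      simp
    have e0 : Cyc.RatEquiv δ k (γ 0) (γ' 0) := by rwa [hγ.1, hγ'.1]
    have hrev : Fin.rev (Fin.last (n + 1)) = (0 : Fin (n + 2)) := Fin.rev_last _
    have r1 : Cyc.RatEquiv δP (k + n) (c (Fin.last _) 0) (c' (Fin.last _) 0) :=
      FP.Rat.ratEquiv_pull π hPd hX hS e0 _ _ (by rw [hc0, hrev]) (by rw [hc0', hrev])
    have hm : k - 1 + ((Fin.last (n + 1) : Fin (n + 2)) : ℕ) = k + n := by
      rw [Fin.val_last]; push_cast; ring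
    have r2 := Chain.ratEquiv hPd hL ht ht (hm ▸ hc (Fin.last _)) (hm ▸ hc' (Fin.last _)) r1 (n + 1)
    rw [show k + (n : ℤ) - ((n + 1 : ℕ) : ℤ) = k - 1 by push_cast; ring] at r2
    rcases neg_one_pow_eq_or ℤ (n + 1) with e | e
    · simp only [d, Fin.val_last, e, one_smul]
      exact r2
    · simp only [d, Fin.val_last, e, neg_one_zsmul]
      exact Ord.ratEquivZero_neg hPd r2
  rw [Fin.sum_univ_castSucc] at hsum
  have hsum' := Ord.ratEquivZero_add hsum (Ord.ratEquivZero_neg hPd hlast)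
  rw [Fin.val_last, add_neg_cancel_right] at hsum'
  have hcast : ∀ i : Fin (n + 1), ((Fin.castSucc i : Fin (n + 2)) : ℕ) = (i : ℕ) := fun i => rfl
  have hdeg : ∀ i : Fin (n + 1), k - ((Fin.rev (Fin.castSucc i) : ℕ) : ℤ) = k - (n + 1) + (i : ℕ) := fun i => by
    have := i.2
    rw [Fin.val_rev, Fin.val_castSucc]
    omega
  have key := Thms.ratEquivZero_of_sum D hPd hX hL hδ (k := k - (n + 1))
    (fun i => ((-1 : ℤ) ^ (i : ℕ)) • (γ (Fin.rev (Fin.castSucc i)) - γ' (Fin.rev (Fin.castSucc i))))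
    (fun i => hdeg i ▸ zsmul_mem _ (hγ.2.1 _) (hγ'.2.1 _)) (fun _ => t) (fun _ => ht)
    (fun i => d (Fin.castSucc i))
    (fun i => by
      funext y
      simp only [d, Function.locallyFinsuppWithin.coe_zsmul, Function.locallyFinsuppWithin.coe_sub,
        Pi.smul_apply, Pi.sub_apply, hc0, hc0', hcast, FibLen.pullFun_apply, smul_eq_mul]
      split_ifs <;> ring)
    (fun i => by
      have := hd (Fin.castSucc i)
      rwa [hcast, show k - 1 + ((i : ℕ) : ℤ) = k - ((n : ℤ) + 1) + (i : ℕ) + n by ring] at this)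
    (by rwa [show k - ((n : ℤ) + 1) + n = k - 1 by ring])
  by_cases hj : j = 0
  · subst hj
    simpa [hγ.1, hγ'.1] using h
  · obtain ⟨i, rfl⟩ : ∃ i : Fin (n + 1), Fin.rev (Fin.castSucc i) = j := by
      refine ⟨⟨n + 1 - (j : ℕ), ?_⟩, Fin.ext ?_⟩
      · have : (j : ℕ) ≠ 0 := fun h => hj (Fin.ext h)
        omega
      · have := j.2
        simp only [Fin.val_rev, Fin.val_castSucc]
        omega
    rw [hdeg, Cyc.RatEquiv]
    exact ratEquivZero_pow hX i (key i)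

end Groth.Agent.Lib.Cyc.PB.Chern
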