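import Groth.Agent.Lib.Cyc.PB.Sym
import Groth.Prelude.Def_AffAlg

/-!
# `𝒮(U) ≅ Γ(U)[x]`
-/

set_option autoImplicit false
set_option linter.style.haveILetI false
universe u

open CategoryTheory CategoryTheory.Limits AlgebraicGeometry TopologicalSpace Opposite MvPolynomial

namespace Groth.Agent.Lib.Cyc.PB.SymPoly

open Groth.Agent.Lib.TensorMod.Dual Groth.Agent.Lib.TensorMod.Basis

variable {X : Scheme.{u}} {U : X.Opens} (hU : IsAffineOpen U)

theorem appLE_specMap_fromSpec {R : CommRingCat.{u}} (φ : Γ(X, U) ⟶ R) (e) :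
    (Spec.map φ ≫ hU.fromSpec).appLE U ⊤ e = φ ≫ (Scheme.ΓSpecIso R).inv := by
  rw [← Scheme.Hom.appLE_comp_appLE (Spec.map φ) hU.fromSpec U ⊤ ⊤ hU.fromSpec_preimage_self.ge le_top]
  rw [show hU.fromSpec.appLE U ⊤ hU.fromSpec_preimage_self.ge = (Scheme.ΓSpecIso Γ(X, U)).inv from by
    rw [Scheme.Hom.appLE, hU.fromSpec_app_self, Category.assoc, ← Functor.map_comp,
      show ∀ k : (op ⊤ : (Spec Γ(X, U)).Opensᵒᵖ) ⟶ op ⊤, (Spec Γ(X, U)).presheaf.map k = 𝟙 _ from fun k => by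
        rw [Subsingleton.elim k (𝟙 _)]; exact CategoryTheory.Functor.map_id _ _, Category.comp_id]]
  rw [Scheme.ΓSpecIso_inv_naturality]
  congr 1

theorem preimage_eq_top {R : CommRingCat.{u}} (φ : Γ(X, U) ⟶ R) :
    (Spec.map φ ≫ hU.fromSpec) ⁻¹ᵁ U = ⊤ := by
  rw [Scheme.Hom.comp_preimage, hU.fromSpec_preimage_self]
  rfl

/-- Sections over the preimage of `U`, read in the ring. -/
noncomputable def read {R : CommRingCat.{u}} (φ : Γ(X, U) ⟶ R) :
    Γ(Spec R, (Spec.map φ ≫ hU.fromSpec) ⁻¹ᵁ U) ⟶ R :=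
  (Spec R).presheaf.map (homOfLE (preimage_eq_top hU φ).ge).op ≫ (Scheme.ΓSpecIso R).hom

theorem algHom_app {Y Z : Scheme.{u}} {g : Y ⟶ X} {π : Z ⟶ X} (h : Y ⟶ Z) (w : h ≫ π = g)
    (e : ⊤ ≤ g ⁻¹ᵁ U) (e' : ⊤ ≤ h ⁻¹ᵁ (π ⁻¹ᵁ U)) :
    (AffAlg.algHom π g h w).app (op U) ≫ Y.presheaf.map (homOfLE e).op = h.appLE (π ⁻¹ᵁ U) ⊤ e' := by
  subst w
  simp only [AffAlg.algHom, eqToHom_refl, Category.comp_id]
  rfl

theorem algHom_app_top {Y Z : Scheme.{u}} {g : Y ⟶ X} {π : Z ⟶ X} (h : Y ⟶ Z) (w : h ≫ π = g)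
    (e : ⊤ ≤ g ⁻¹ᵁ U) (e0 : ⊤ ≤ π ⁻¹ᵁ U) {R : CommRingCat.{u}} (k : Γ(Y, ⊤) ⟶ R) :
    (AffAlg.algHom π g h w).app (op U) ≫ Y.presheaf.map (homOfLE e).op ≫ k =
      Z.presheaf.map (homOfLE e0).op ≫ h.appTop ≫ k := by
  rw [reassoc_of% (algHom_app h w e (show ⊤ ≤ h ⁻¹ᵁ (π ⁻¹ᵁ U) from le_top.trans (h.preimage_mono e0)))]
  rw [← Scheme.Hom.map_appLE h (le_top : ⊤ ≤ h ⁻¹ᵁ ⊤) (homOfLE e0).op, Category.assoc,
    Scheme.Hom.appTop, Scheme.Hom.app_eq_appLE]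
  rfl

theorem read_injective {R : CommRingCat.{u}} (φ : Γ(X, U) ⟶ R) : Function.Injective (read hU φ) := by
  haveI : IsIso (homOfLE (preimage_eq_top hU φ).ge) := ⟨homOfLE le_top, rfl, rfl⟩
  haveI : IsIso (read hU φ) := by unfold read; infer_instance
  exact (ConcreteCategory.bijective_of_isIso (read hU φ)).1

variable [IsLocallyNoetherian X]

/-- Quasi-compact and quasi-separated charts. -/
instance qc_chart {R : CommRingCat.{u}} (φ : Γ(X, U) ⟶ R) : QuasiCompact (Spec.map φ ≫ hU.fromSpec) :=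
  inferInstance

theorem read_str {R : CommRingCat.{u}} (φ : Γ(X, U) ⟶ R) (a : Γ(X, U)) :
    read hU φ ((Spec.map φ ≫ hU.fromSpec).app U a) = φ a := by
  show ((Spec.map φ ≫ hU.fromSpec).appLE U ⊤ (preimage_eq_top hU φ).ge ≫ (Scheme.ΓSpecIso _).hom) a = _
  rw [appLE_specMap_fromSpec, Category.assoc, Iso.inv_hom_id, Category.comp_id]

theorem read_surjective {R : CommRingCat.{u}} (φ : Γ(X, U) ⟶ R) : Function.Surjective (read hU φ) := by
  haveI : IsIso (homOfLE (preimage_eq_top hU φ).ge) := ⟨homOfLE le_top, rfl, rfl⟩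
  haveI : IsIso (read hU φ) := by unfold read; infer_instance
  exact (ConcreteCategory.bijective_of_isIso (read hU φ)).2

theorem elem_eq {P Q Q' R : CommRingCat.{u}} (a : P ⟶ Q) (b : Q ⟶ R) (c : P ⟶ Q') (d : Q' ⟶ R)
    (h : a ≫ b = c ≫ d) (z : P) : b (a z) = d (c z) :=
  ConcreteCategory.congr_hom h z

/-- An algebra maps to the direct image of its chart. -/
noncomputable def toChart (A : RelSpec.QCAlg X) :
    A ⟶ RelSpec.QCAlg.directImage (Spec.map (A.str.app (op U)) ≫ hU.fromSpec) :=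
  haveI := RelSpecBasics.Gamma.isIso_gammaMap A
  ⟨inv A.gammaMap ≫ AffAlg.algHom A.π _ (A.ι U hU) (A.ι_π U hU), by
    have h : A.π.c = A.str ≫ inv A.gammaMap := by
      rw [IsIso.eq_comp_inv]
      exact A.π_c_gammaMap
    refine (Category.assoc _ _ _).symm.trans ?_
    exact (congrArg (· ≫ AffAlg.algHom A.π (Spec.map (A.str.app (op U)) ≫ hU.fromSpec) (A.ι U hU)
      (A.ι_π U hU)) h.symm).trans (AffAlg.algHom_comm _ _ _ _)⟩

theorem algHom_read_toChart (A : RelSpec.QCAlg X) :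
    (AffAlg.algHom A.π (Spec.map (A.str.app (op U)) ≫ hU.fromSpec) (A.ι U hU) (A.ι_π U hU)).app (op U) ≫
      read hU (A.str.app (op U)) = A.gammaMap.app (op U) := by
  rw [read, reassoc_of% (algHom_app (A.ι U hU) (A.ι_π U hU) (preimage_eq_top hU (A.str.app (op U))).ge
    (A.top_le_preimage U hU)), A.gammaMap_app U hU]
  rfl

theorem toChart_app (A : RelSpec.QCAlg X) :
    haveI := RelSpecBasics.Gamma.isIso_gammaMap A
    (toChart hU A).hom.app (op U) = (inv A.gammaMap).app (op U) ≫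
      (AffAlg.algHom A.π (Spec.map (A.str.app (op U)) ≫ hU.fromSpec) (A.ι U hU) (A.ι_π U hU)).app (op U) := by
  rfl

theorem read_toChart (A : RelSpec.QCAlg X) (a : A.presheaf.obj (op U)) :
    read hU (A.str.app (op U)) ((toChart hU A).hom.app (op U) a) = a := by
  haveI := RelSpecBasics.Gamma.isIso_gammaMap A
  have key2 : (inv A.gammaMap).app (op U) ≫ A.gammaMap.app (op U) = 𝟙 _ := by
    rw [← NatTrans.comp_app, IsIso.inv_hom_id]; rfl
  rw [toChart_app]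
  exact (ConcreteCategory.congr_hom (algHom_read_toChart hU A) _).trans (ConcreteCategory.congr_hom key2 a)

theorem comp_chart {R R' : CommRingCat.{u}} {φ : Γ(X, U) ⟶ R} {φ' : Γ(X, U) ⟶ R'} (g : R ⟶ R')
    (w : φ ≫ g = φ') : Spec.map g ≫ Spec.map φ ≫ hU.fromSpec = Spec.map φ' ≫ hU.fromSpec := by
  rw [← Spec.map_comp_assoc, w]

/-- A map of rings gives a map of direct images. -/
noncomputable def transport {R R' : CommRingCat.{u}} {φ : Γ(X, U) ⟶ R} {φ' : Γ(X, U) ⟶ R'} (g : R ⟶ R')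
    (w : φ ≫ g = φ') :
    RelSpec.QCAlg.directImage (Spec.map φ ≫ hU.fromSpec) ⟶
      RelSpec.QCAlg.directImage (Spec.map φ' ≫ hU.fromSpec) :=
  ⟨AffAlg.algHom _ _ (Spec.map g) (comp_chart hU g w), AffAlg.algHom_comm _ _ _ _⟩

theorem algHom_read_transport {R R' : CommRingCat.{u}} {φ : Γ(X, U) ⟶ R} {φ' : Γ(X, U) ⟶ R'} (g : R ⟶ R')
    (w : φ ≫ g = φ') :
    (AffAlg.algHom (Spec.map φ ≫ hU.fromSpec) _ (Spec.map g) (comp_chart hU g w)).app (op U) ≫
      read hU φ' = read hU φ ≫ g := by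
  rw [read, read, algHom_app_top (Spec.map g) (comp_chart hU g w) _ (preimage_eq_top hU φ).ge,
    Scheme.ΓSpecIso_naturality, Category.assoc]

theorem transport_app {R R' : CommRingCat.{u}} {φ : Γ(X, U) ⟶ R} {φ' : Γ(X, U) ⟶ R'} (g : R ⟶ R')
    (w : φ ≫ g = φ') :
    (transport hU g w).hom.app (op U) =
      (AffAlg.algHom (Spec.map φ ≫ hU.fromSpec) _ (Spec.map g) (comp_chart hU g w)).app (op U) :=
  rfl

theorem transport_read {R R' : CommRingCat.{u}} {φ : Γ(X, U) ⟶ R} {φ' : Γ(X, U) ⟶ R'} (g : R ⟶ R')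
    (w : φ ≫ g = φ') : (transport hU g w).hom.app (op U) ≫ read hU φ' = read hU φ ≫ g := by
  rw [transport_app]
  exact algHom_read_transport hU g w

theorem read_transport {R R' : CommRingCat.{u}} {φ : Γ(X, U) ⟶ R} {φ' : Γ(X, U) ⟶ R'} (g : R ⟶ R')
    (w : φ ≫ g = φ') (z) :
    read hU φ' ((transport hU g w).hom.app (op U) z) = g (read hU φ z) :=
  elem_eq _ _ _ _ (transport_read hU g w) z

theorem exists_transport {R R' : CommRingCat.{u}} {φ : Γ(X, U) ⟶ R} {φ' : Γ(X, U) ⟶ R'} (g : R ⟶ R')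
    (w : φ ≫ g = φ') : ∃ χ : RelSpec.QCAlg.directImage (Spec.map φ ≫ hU.fromSpec) ⟶
      RelSpec.QCAlg.directImage (Spec.map φ' ≫ hU.fromSpec),
      ∀ z, read hU φ' (χ.hom.app (op U) z) = g (read hU φ z) :=
  ⟨transport hU g w, read_transport hU g w⟩

theorem comp_app_elem {A B C : RelSpec.QCAlg X} (f : A ⟶ B) (g : B ⟶ C) (a : A.presheaf.obj (op U)) :
    (f ≫ g).hom.app (op U) a = g.hom.app (op U) (f.hom.app (op U) a) := rfl

theorem mapApp {E : X.Modules} {A B : RelSpec.QCAlg X} (k : E ⟶ A.toModule) (f : A ⟶ B) (x : Γ(E, U)) :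
    (k ≫ RelSpec.QCAlg.Hom.toModuleMap f).app U x = f.hom.app (op U) (k.app U x) := rfl

theorem heqElem {A : RelSpec.QCAlg X} {R : CommRingCat.{u}} {φ : Γ(X, U) ⟶ R}
    (ψ : A ⟶ RelSpec.QCAlg.directImage (Spec.map φ ≫ hU.fromSpec))
    (χ : RelSpec.QCAlg.directImage (Spec.map φ ≫ hU.fromSpec) ⟶
      RelSpec.QCAlg.directImage (Spec.map (A.str.app (op U)) ≫ hU.fromSpec))
    (κ : A ⟶ RelSpec.QCAlg.directImage (Spec.map (A.str.app (op U)) ≫ hU.fromSpec))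
    (g : R ⟶ A.presheaf.obj (op U))
    (hχ : ∀ z, read hU (A.str.app (op U)) (χ.hom.app (op U) z) = g (read hU φ z))
    (hκ : ∀ a, read hU (A.str.app (op U)) (κ.hom.app (op U) a) = a) (a : A.presheaf.obj (op U))
    (ha : g (read hU φ (ψ.hom.app (op U) a)) = a) :
    (ψ ≫ χ).hom.app (op U) a = κ.hom.app (op U) a := by
  refine read_injective hU _ ?_
  rw [comp_app_elem, hχ, hκ]
  exact ha

theorem surjElem {A : RelSpec.QCAlg X} {R : CommRingCat.{u}} {φ : Γ(X, U) ⟶ R}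
    (ψ : A ⟶ RelSpec.QCAlg.directImage (Spec.map φ ≫ hU.fromSpec))
    (χ : RelSpec.QCAlg.directImage (Spec.map φ ≫ hU.fromSpec) ⟶
      RelSpec.QCAlg.directImage (Spec.map (A.str.app (op U)) ≫ hU.fromSpec))
    (κ : A ⟶ RelSpec.QCAlg.directImage (Spec.map (A.str.app (op U)) ≫ hU.fromSpec))
    (g : R ⟶ A.presheaf.obj (op U))
    (hχ : ∀ z, read hU (A.str.app (op U)) (χ.hom.app (op U) z) = g (read hU φ z))
    (hκ : ∀ a, read hU (A.str.app (op U)) (κ.hom.app (op U) a) = a) (heq : κ = ψ ≫ χ)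
    (a : A.presheaf.obj (op U)) : g (read hU φ (ψ.hom.app (op U) a)) = a := by
  subst heq
  have := hκ a
  rw [comp_app_elem, hχ] at this
  exact this

variable {E : X.Modules} {r : ℕ} {e : Fin r → Γ(E, U)} (he : IsBasis e)
  {𝒮 : RelProj.QCGrAlg X} {j : E ⟶ 𝒮.toModule}

/-- The image of a basis section. -/
noncomputable def gen (j : E ⟶ 𝒮.toModule) (e : Fin r → Γ(E, U)) (i : Fin r) : 𝒮.presheaf.obj (op U) :=
  j.app U (e i)

/-- `Γ(U)[x] → 𝒮(U)`. -/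
noncomputable def θ : MvPolynomial (Fin r) Γ(X, U) →+* 𝒮.presheaf.obj (op U) :=
  eval₂Hom (𝒮.str.app (op U)).hom (gen j e)

include hU he in
theorem θ_bijective (hS : RelSpec.IsSymAlg E 𝒮.toQCAlg j) :
    Function.Bijective (θ (e := e) (𝒮 := 𝒮) (j := j)) := by
  let φC : Γ(X, U) ⟶ CommRingCat.of (MvPolynomial (Fin r) Γ(X, U)) := CommRingCat.ofHom C
  let f := Spec.map φC ≫ hU.fromSpec
  choose v hv using fun i : Fin r => read_surjective hU φC (MvPolynomial.X i)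
  obtain ⟨φ, hφ⟩ := Sym.exists_hom_of_basis he (RelSpec.QCAlg.directImage f)
    (Sym.restr_bijective f (preimage_eq_top hU φC)) v
  obtain ⟨ψ, hψ, -⟩ := hS (RelSpec.QCAlg.directImage f) φ
  let ρ : 𝒮.presheaf.obj (op U) ⟶ CommRingCat.of (MvPolynomial (Fin r) Γ(X, U)) :=
    ψ.hom.app (op U) ≫ read hU φC
  have hρC : ∀ a, ρ ((𝒮.str.app (op U)).hom a) = C a := fun a => by
    have h1 : 𝒮.str.app (op U) ≫ ψ.hom.app (op U) = f.app U :=
      congrArg (fun t => t.app (op U)) ψ.comm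
    exact (congrArg (read hU φC) (ConcreteCategory.congr_hom h1 a)).trans (read_str hU φC a)
  have hρX : ∀ i, ρ (gen j e i) = MvPolynomial.X i := fun i => by
    have h1 : (RelSpec.QCAlg.Hom.toModuleMap ψ).app U (j.app U (e i)) = φ.app U (e i) := by
      rw [← hψ]; rfl
    exact (congrArg (read hU φC) (h1.trans (hφ i))).trans (hv i)
  have hinj : ∀ q, ρ (θ (e := e) (j := j) q) = q := fun q => by
    have : ρ.hom.comp (θ (e := e) (j := j)) = RingHom.id _ :=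
      MvPolynomial.ringHom_ext (fun a => (congrArg ρ.hom (eval₂Hom_C _ _ a)).trans (hρC a))
        fun i => (congrArg ρ.hom (eval₂Hom_X' _ _ i)).trans (hρX i)
    exact DFunLike.congr_fun this q
  have wt : φC ≫ CommRingCat.ofHom (θ (e := e) (j := j)) = 𝒮.str.app (op U) := by
    ext a : 2
    exact eval₂Hom_C _ _ a
  obtain ⟨g, hg⟩ : ∃ g : CommRingCat.of (MvPolynomial (Fin r) Γ(X, U)) ⟶ 𝒮.presheaf.obj (op U),
      g = CommRingCat.ofHom (θ (e := e) (j := j)) := ⟨_, rfl⟩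
  have hgθ : ∀ q, g q = θ (e := e) (j := j) q := fun q => by rw [hg]; rfl
  rw [← hg] at wt
  obtain ⟨χ, hχ⟩ := exists_transport hU g wt
  obtain ⟨κ, hκ⟩ : ∃ κ : 𝒮.toQCAlg ⟶
      RelSpec.QCAlg.directImage (Spec.map (𝒮.toQCAlg.str.app (op U)) ≫ hU.fromSpec),
      ∀ a, read hU (𝒮.toQCAlg.str.app (op U)) (κ.hom.app (op U) a) = a :=
    ⟨toChart hU 𝒮.toQCAlg, read_toChart hU 𝒮.toQCAlg⟩
  have heq : κ = ψ ≫ χ := by
    refine (hS _ (j ≫ RelSpec.QCAlg.Hom.toModuleMap κ)).unique rfl ?_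
    refine Sym.hom_ext_of_basis he _
      (fun W => (Sym.restr_bijective _ (preimage_eq_top hU _) W).1) fun i => ?_
    refine (mapApp j (ψ ≫ χ) (e i)).trans ?_
    refine Eq.trans ?_ (mapApp j κ (e i)).symm
    exact heqElem hU ψ χ κ g hχ hκ (gen j e i)
      ((hgθ _).trans ((congrArg (θ (e := e) (j := j)) (hρX i)).trans (eval₂Hom_X' _ _ i)))
  refine ⟨fun a b hab => ?_, fun a => ⟨ρ a, ?_⟩⟩
  · rw [← hinj a, hab, hinj b]
  · exact (hgθ _).symm.trans (surjElem hU ψ χ κ g hχ hκ heq a)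

omit [IsLocallyNoetherian X] in
theorem θ_mem (hj : ∀ i, gen j e i ∈ 𝒮.deg U hU 1) {d : ℕ}
    {q : MvPolynomial (Fin r) Γ(X, U)} (hq : q.IsHomogeneous d) :
    θ (e := e) (j := j) q ∈ 𝒮.deg U hU d := by
  classical
  rw [θ, coe_eval₂Hom, MvPolynomial.eval₂_eq]
  refine sum_mem fun m hm => ?_
  have hd : m.degree = d := (hq.degree_eq_sum_deg_support hm).symm
  have h2 := SetLike.mul_mem_graded (A := 𝒮.deg U hU) (𝒮.str_mem U hU (q.coeff m))
    (SetLike.prod_pow_mem_graded (A := 𝒮.deg U hU) (i := fun _ => 1) (n := fun i => m i)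
      (g := gen j e) (F := m.support) fun i _ => hj i)
  rw [show (0 : ℕ) + ∑ k ∈ m.support, m k • 1 = d by simp [← hd, Finsupp.degree] <;> rfl] at h2
  exact h2

end Groth.Agent.Lib.Cyc.PB.SymPoly
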