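import Groth.Agent.Lib.Cyc.PB.Away
import Groth.Agent.Lib.Cyc.PB.SymPoly
import Groth.Agent.Lib.Cyc.C1Indep
import Groth.Agent.H58VA.GrTwistOne

/-!
# Frames on a projective bundle
-/

set_option autoImplicit false
set_option linter.style.haveILetI false
universe u

open CategoryTheory CategoryTheory.Limits AlgebraicGeometry TopologicalSpace Opposite MvPolynomial
open scoped HomogeneousIdeal

namespace Groth.Agent.Lib.Cyc.PB

open Groth.Agent.Lib Groth.Agent.Lib.Cyc Groth.Agent.H58VA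
open TensorMod.Dual TensorMod.Gen

theorem span_germ_eq_top {X : Scheme.{u}} {L : X.Modules} {U : X.Opens} {e : Γ(L, U)}
    (he : TensorMod.Gen.IsGen L U e) (x : X) (hx : x ∈ U) :
    Submodule.span (X.presheaf.stalk x) {L.presheaf.germ U x hx e} = ⊤ := by
  refine eq_top_iff.mpr fun v _ => ?_
  obtain ⟨V, hxV, m, rfl⟩ := TopCat.Presheaf.exists_germ_eq L.presheaf v
  obtain ⟨a, ha⟩ := (he (V ⊓ U) inf_le_right).2 (L.presheaf.map (homOfLE inf_le_left).op m)
  simp only at ha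
  refine Submodule.mem_span_singleton.mpr ⟨X.presheaf.germ (V ⊓ U) x ⟨hxV, hx⟩ a, ?_⟩
  rw [← TopCat.Presheaf.germ_res_apply L.presheaf (homOfLE (inf_le_left : V ⊓ U ≤ V)) x ⟨hxV, hx⟩ m,
    ← ha]
  erw [Modules.StalkModule.germ_smul]
  congr 1
  exact (TopCat.Presheaf.germ_res_apply L.presheaf (homOfLE (inf_le_right : V ⊓ U ≤ U)) x
    ⟨hxV, hx⟩ e).symm

theorem pushforward_rs {X Y : Scheme.{u}} (f : X ⟶ Y) (M : X.Modules) {V W : Y.Opens} (h : V ≤ W)
    (x : Γ((Scheme.Modules.pushforward f).obj M, W)) :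
    rs ((Scheme.Modules.pushforward f).obj M) h x =
      (rs M (f.preimage_mono h) (x : Γ(M, f ⁻¹ᵁ W)) : Γ(M, f ⁻¹ᵁ V)) := rfl

theorem congr_appLE {X Y : Scheme.{u}} {f g : X ⟶ Y} (h : f = g) (U : Y.Opens) (V : X.Opens)
    (e : V ≤ f ⁻¹ᵁ U) : f.appLE U V e = g.appLE U V (h ▸ e) := by
  subst h; rfl

section twist

variable {A : Type u} [CommRing A] {B σ : Type u} [CommRing B] [SetLike σ B] [AddSubgroupClass σ B]
  {𝒜 : ℕ → σ} [GradedRing 𝒜] {n : ℕ} (T : Pres A 𝒜 n)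

/-- The section `y_k / 1` of `O(1)`. -/
noncomputable def Pres.tau (k : Fin (n + 1)) : Γ(GrTwist.twist 𝒜 1, ⊤) :=
  GrTwistOne.oneSec (T.y_mem k)

theorem Pres.isGen_tau (l : Fin (n + 1)) : TensorMod.Gen.IsGen (GrTwist.twist 𝒜 1) (Proj.basicOpen 𝒜 (T.y l))
    (rs (GrTwist.twist 𝒜 1) le_top (T.tau l)) :=
  GrTwistOne.isGen_oneSec (T.y_mem l)

theorem Pres.tau_rel (l : Fin (n + 1)) (k : Var l) :
    rs (GrTwist.twist 𝒜 1) (le_top : Proj.basicOpen 𝒜 (T.y l) ≤ ⊤) (T.tau k.1) =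
      Proj.awayToSection 𝒜 (T.y l) (HomogeneousLocalization.Away.isLocalizationElem (T.y_mem l) (T.y_mem k.1)) •
        rs (GrTwist.twist 𝒜 1) (le_top : Proj.basicOpen 𝒜 (T.y l) ≤ ⊤) (T.tau l) := by
  refine Subtype.ext (funext fun p => Subtype.ext ?_)
  refine Eq.trans ?_ (GrTwistOne.val_smul_oneSec (T.y_mem l) _ p).symm
  show GrTwistOne.frac1 p.1 (T.y k.1) = _
  rw [show ((Proj.awayToSection 𝒜 (T.y l) (HomogeneousLocalization.Away.isLocalizationElem (T.y_mem l)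
    (T.y_mem k.1)) : GrTwist.O (𝒜 := 𝒜) (op (Proj.basicOpen 𝒜 (T.y l)))).1 p).val = _ from
      ProjectiveSpectrum.Proj.awayToSection_apply 𝒜 (T.y l) _ p]
  rw [HomogeneousLocalization.Away.isLocalizationElem, HomogeneousLocalization.Away.val_mk,
    Localization.mk_eq_mk', IsLocalization.map_mk', ← Localization.mk_eq_mk', Localization.mk_mul,
    Localization.mk_eq_mk_iff, Localization.r_iff_exists]
  exact ⟨1, by simp [mul_comm]⟩

theorem awayι_appLE {f : B} {m : ℕ} (hf : f ∈ 𝒜 m) (hm : 0 < m) (e) :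
    (Proj.awayι 𝒜 f hf hm).appLE (Proj.basicOpen 𝒜 f) ⊤ e =
      (Proj.basicOpenIsoAway 𝒜 f hf hm).inv ≫ (Scheme.ΓSpecIso _).inv := by
  have h0 : Proj.awayToSection 𝒜 f ≫ (Proj.basicOpen 𝒜 f).topIso.inv =
      (Scheme.ΓSpecIso _).inv ≫ (Proj.basicOpenToSpec 𝒜 f).appTop := by
    rw [Scheme.Hom.appTop, Proj.basicOpenToSpec_app_top, Iso.inv_hom_id_assoc]
  rw [← cancel_epi (Proj.basicOpenIsoAway 𝒜 f hf hm).hom, Iso.hom_inv_id_assoc,
    Proj.basicOpenIsoAway_hom]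
  have h1 : (Proj.awayι 𝒜 f hf hm).appLE (Proj.basicOpen 𝒜 f) ⊤ e =
      (Proj.basicOpen 𝒜 f).topIso.inv ≫ (Proj.basicOpenIsoSpec 𝒜 f hf hm).inv.appTop := by
    rw [congr_appLE (Proj.basicOpenIsoSpec_inv_ι 𝒜 f hf hm).symm,
      ← Scheme.Hom.appLE_comp_appLE _ _ (Proj.basicOpen 𝒜 f) ⊤ ⊤ (by simp) le_top]
    congr 1
  rw [h1, reassoc_of% h0, ← Proj.basicOpenIsoSpec_hom 𝒜 f hf hm, ← Scheme.Hom.comp_appTop,
    Iso.inv_hom_id, Scheme.Hom.id_appTop, Category.comp_id]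

theorem Pres.chart_preimage (l : Fin (n + 1)) : (⊤ : (Spec (CommRingCat.of (MvPolynomial (Var l) A))).Opens) ≤
    T.chart l ⁻¹ᵁ Proj.basicOpen 𝒜 (T.y l) := by
  intro w _
  have := (T.range_chart l).le ⟨w, rfl⟩
  exact this

theorem Pres.chart_appLE (l : Fin (n + 1)) (k : Var l) :
    (T.chart l).appLE (Proj.basicOpen 𝒜 (T.y l)) ⊤ (T.chart_preimage l)
      (Proj.awayToSection 𝒜 (T.y l)
        (HomogeneousLocalization.Away.isLocalizationElem (T.y_mem l) (T.y_mem k.1))) =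
      (Scheme.ΓSpecIso _).inv (MvPolynomial.X k) := by
  set t := HomogeneousLocalization.Away.isLocalizationElem (T.y_mem l) (T.y_mem k.1)
  set ψ := CommRingCat.ofHom (RingEquiv.ofBijective _ (T.toAway_bijective l)).symm.toRingHom
  have e1 : ⊤ ≤ Proj.awayι 𝒜 (T.y l) (T.y_mem l) Nat.one_pos ⁻¹ᵁ Proj.basicOpen 𝒜 (T.y l) := by
    rw [← Proj.opensRange_awayι 𝒜 (T.y l) (T.y_mem l) Nat.one_pos]
    intro w _
    exact ⟨w, rfl⟩
  have key : Proj.awayToSection 𝒜 (T.y l) ≫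
      (T.chart l).appLE (Proj.basicOpen 𝒜 (T.y l)) ⊤ (T.chart_preimage l) =
      ψ ≫ (Scheme.ΓSpecIso _).inv := by
    rw [congr_appLE (show T.chart l = Spec.map ψ ≫ Proj.awayι 𝒜 (T.y l) (T.y_mem l) Nat.one_pos from rfl),
      ← Scheme.Hom.appLE_comp_appLE _ _ (Proj.basicOpen 𝒜 (T.y l)) ⊤ ⊤ e1 le_top,
      awayι_appLE, ← Proj.basicOpenIsoAway_hom 𝒜 (T.y l) (T.y_mem l) Nat.one_pos, Category.assoc,
      Iso.hom_inv_id_assoc, Scheme.ΓSpecIso_inv_naturality, Scheme.Hom.appTop, Scheme.Hom.app_eq_appLE]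
    rfl
  refine (ConcreteCategory.congr_hom key t).trans ?_
  show (Scheme.ΓSpecIso _).inv (ψ t) = _
  congr 1
  show (RingEquiv.ofBijective _ (T.toAway_bijective l)).symm t = _
  rw [RingEquiv.symm_apply_eq, RingEquiv.ofBijective_apply, Pres.toAway, eval₂Hom_X']

end twist

section

variable {X P : Scheme.{u}} {𝒮 : RelProj.QCGrAlg X} {p : P ⟶ X}
  {chart : ∀ (U : X.Opens) (hU : IsAffineOpen U), (((p ⁻¹ᵁ U : P.Opens) : Scheme.{u}) ≅ Proj (𝒮.deg U hU))}
  (hP : RelProj.IsRelProj 𝒮 p chart) {O1 : P.Modules}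
  {lam : ∀ (U : X.Opens) (hU : IsAffineOpen U),
    O1 ⟶ (Scheme.Modules.pushforward (RelProj.emb p chart U hU)).obj (GrTwist.twist (𝒮.deg U hU) 1)}
  (hO1 : RelProj.IsRelTwist 𝒮 p chart 1 O1 lam) {U : X.Opens} (hU : IsAffineOpen U) {n : ℕ}
  (T : Pres Γ(X, U) (𝒮.deg U hU) n) (hc : ∀ a, (T.c₀ a : 𝒮.presheaf.obj (op U)) = (𝒮.str.app (op U)).hom a)

theorem emb_range : Set.range (RelProj.emb p chart U hU) = (p ⁻¹ᵁ U : Set P) := by
  have : (RelProj.emb p chart U hU).opensRange = p ⁻¹ᵁ U :=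
    (Scheme.Hom.opensRange_comp_of_isIso _ _).trans (p ⁻¹ᵁ U).opensRange_ι
  exact congrArg (fun V : P.Opens => (V : Set P)) this

include hP hc in
theorem chart_w (l : Fin (n + 1)) : (T.chart l ≫ RelProj.emb p chart U hU) ≫ p =
    Spec.map (CommRingCat.ofHom (MvPolynomial.C : Γ(X, U) →+* MvPolynomial (Var l) Γ(X, U))) ≫ hU.fromSpec := by
  have h0 : 𝒮.strZero U hU = CommRingCat.ofHom T.c₀ := by
    ext a : 2
    exact Subtype.ext (hc a).symm
  rw [RelProj.emb, ← T.chart_toSpecZero l, Category.assoc, Category.assoc, ← h0, ← hP.chart_over U hU,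
    Iso.inv_hom_id_assoc]
  simp only [Category.assoc]

include hO1 in
theorem isGen_of_val {V : P.Opens} (hV : V ≤ p ⁻¹ᵁ U) (s : Γ(O1, V))
    (h : TensorMod.Gen.IsGen (GrTwist.twist (𝒮.deg U hU) 1) (RelProj.emb p chart U hU ⁻¹ᵁ V)
      ((lam U hU).app V s)) : TensorMod.Gen.IsGen O1 V s := by
  intro W hW
  have hWU : W ≤ p ⁻¹ᵁ U := hW.trans hV
  have hbij : Function.Bijective ((RelProj.emb p chart U hU).app W) := by
    haveI := (RelProj.emb p chart U hU).isIso_app W (fun x hx => by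
      show x ∈ Set.range (RelProj.emb p chart U hU)
      rw [emb_range hU]
      exact hWU hx)
    exact ConcreteCategory.bijective_of_isIso _
  have hl := hO1.bijective U hU W hWU
  have he := (h (RelProj.emb p chart U hU ⁻¹ᵁ W) ((RelProj.emb p chart U hU).preimage_mono hW)).comp hbij
  refine (Function.Bijective.of_comp_iff' hl _).1 ?_
  refine (iff_of_eq (congrArg Function.Bijective ?_)).1 he
  funext a
  symm
  show (lam U hU).app W (a • rs O1 hW s) = _
  rw [Scheme.Modules.Hom.app_smul, ← TensorMod.HomGlue.rs_app]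
  rfl

set_option maxHeartbeats 400000 in
include hP hO1 hc in
theorem nonempty_frame (η : X) (hη : η ∈ U) : Nonempty (Frame p O1 n η) := by
  set em := RelProj.emb p chart U hU with hem
  have hWle : p ⁻¹ᵁ U ≤ p ⁻¹ᵁ U := le_rfl
  choose σ hσ using fun k => (hO1.bijective U hU (p ⁻¹ᵁ U) hWle).2
    (rs (GrTwist.twist (𝒮.deg U hU) 1) (le_top : em ⁻¹ᵁ (p ⁻¹ᵁ U) ≤ ⊤) (T.tau k))
  let D : Fin (n + 1) → P.Opens := fun l => em ''ᵁ Proj.basicOpen (𝒮.deg U hU) (T.y l)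
  have hDle : ∀ l, D l ≤ p ⁻¹ᵁ U := fun l x hx => by
    obtain ⟨z, -, rfl⟩ := hx
    show em z ∈ (p ⁻¹ᵁ U : Set P)
    rw [← emb_range hU]
    exact ⟨z, rfl⟩
  have hDpre : ∀ l, em ⁻¹ᵁ D l = Proj.basicOpen (𝒮.deg U hU) (T.y l) := fun l => em.preimage_image_eq _
  have hlam : ∀ l k, (lam U hU).app (D l) (rs O1 (hDle l) (σ k)) =
      rs (GrTwist.twist (𝒮.deg U hU) 1) (le_top : em ⁻¹ᵁ D l ≤ ⊤) (T.tau k) := fun l k => by
    rw [← TensorMod.HomGlue.rs_app, hσ]
    exact (pushforward_rs em (GrTwist.twist (𝒮.deg U hU) 1) (hDle l) _).trans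
      (rs_rs (GrTwist.twist (𝒮.deg U hU) 1) _ _ _)
  have hgen : ∀ l, TensorMod.Gen.IsGen O1 (D l) (rs O1 (hDle l) (σ l)) := fun l => by
    refine isGen_of_val hO1 hU (hDle l) _ ?_
    rw [hlam]
    intro W hW
    have := T.isGen_tau l W (hW.trans (hDpre l).le)
    simp only [rs_rs] at this ⊢
    exact this
  have hrange : ∀ l, Set.range (T.chart l ≫ em) = (D l : Set P) := fun l => by
    rw [Scheme.Hom.comp_base, TopCat.coe_comp, Set.range_comp, T.range_chart]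
    rfl
  refine ⟨{
    A := Γ(X, U)
    b := hU.fromSpec
    b_open := inferInstance
    a := hU.primeIdealOf ⟨η, hη⟩
    ba := hU.fromSpec_primeIdealOf ⟨η, hη⟩
    e := fun l => T.chart l ≫ em
    e_open := fun l => inferInstance
    w := chart_w hP hU T hc
    cover := fun x hx => ?_
    mem_iff := fun l k z => ?_
    W := p ⁻¹ᵁ U
    W_mem := fun x hx => show p x ∈ U from hx ▸ hη
    σ := σ
    gen := fun l x hx hxl => ?_
    rel := fun l k z hz => ?_ }⟩
  · obtain ⟨z, rfl⟩ : x ∈ Set.range em := by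
      rw [hem, emb_range hU]
      show p x ∈ U
      exact hx ▸ hη
    obtain ⟨l, w, rfl⟩ := T.cover z
    exact ⟨l, w, Scheme.Hom.comp_apply _ _ _⟩
  · rw [Scheme.Hom.comp_apply, ← T.chart_mem_iff l k z, hrange, T.range_chart]
    show em (T.chart l z) ∈ (em ''ᵁ _ : P.Opens) ↔ _
    exact em.isEmbedding.injective.mem_set_image
  · rw [hrange] at hxl
    have := span_germ_eq_top (hgen l) x hxl
    rwa [TopCat.Presheaf.germ_res_apply] at this
  · have hzD : (T.chart l ≫ em) z ∈ D l := (hrange l).le ⟨z, rfl⟩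
    obtain ⟨a, ha⟩ := (hgen l (D l) le_rfl).2 (rs O1 (hDle l) (σ k.1))
    simp only [rs_rs] at ha
    refine ⟨P.presheaf.germ (D l) _ hzD a, ?_, ?_⟩
    · have := congrArg (O1.presheaf.germ (D l) _ hzD) ha
      rw [Modules.StalkModule.germ_smul, TopCat.Presheaf.germ_res_apply,
        TopCat.Presheaf.germ_res_apply] at this
      exact this.symm
    · have heq : em.app (D l) a = (Proj (𝒮.deg U hU)).presheaf.map (eqToHom (hDpre l)).op
          (Proj.awayToSection (𝒮.deg U hU) (T.y l)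
            (HomogeneousLocalization.Away.isLocalizationElem (T.y_mem l) (T.y_mem k.1))) := by
        have h1 := congrArg ((lam U hU).app (D l)) ha
        rw [Scheme.Modules.Hom.app_smul, hlam, hlam] at h1
        have h2 := congrArg (rs (GrTwist.twist (𝒮.deg U hU) 1) (hDpre l).le) (T.tau_rel l k)
        rw [rs_smul, rs_rs, rs_rs] at h2
        have h3 := T.isGen_tau l (em ⁻¹ᵁ D l) (hDpre l).le
        refine h3.1 ?_
        simp only [rs_rs]
        exact h1.trans h2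
      have e0 : ⊤ ≤ (T.chart l ≫ em) ⁻¹ᵁ D l := fun w _ => (hrange l).le ⟨w, rfl⟩
      have h4 : (T.chart l ≫ em).appLE (D l) ⊤ e0 a = (Scheme.ΓSpecIso _).inv (MvPolynomial.X k) := by
        rw [← Scheme.Hom.appLE_comp_appLE (T.chart l) em (D l) (em ⁻¹ᵁ D l) ⊤ le_rfl
          ((T.chart_preimage l).trans_eq (by rw [hDpre l]))]
        rw [ConcreteCategory.comp_apply, ← Scheme.Hom.app_eq_appLE, heq,
          ← ConcreteCategory.comp_apply, Scheme.Hom.map_appLE]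
        exact T.chart_appLE l k
      rw [Scheme.Hom.germ_stalkMap_apply, ← h4, Scheme.Hom.appLE, ConcreteCategory.comp_apply]
      exact (TopCat.Presheaf.germ_res_apply
        (Spec (CommRingCat.of (MvPolynomial (Var l) Γ(X, U)))).presheaf (homOfLE e0) z trivial _).symm

end

end Groth.Agent.Lib.Cyc.PB
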