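import Groth.Agent.Lib.Cyc.PB.Sect
import Groth.Agent.Lib.Cyc.PB.Bundle
import Groth.Agent.Lib.TensorMod.LocFree
import Groth.Prelude.Def_KRR

/-!
# Frames on a projective bundle given by its universal property
-/

set_option autoImplicit false
set_option linter.style.haveILetI false
universe u

open CategoryTheory CategoryTheory.Limits AlgebraicGeometry TopologicalSpace Opposite MvPolynomial
open ZarCoh.FlatBC.PullbackSections

namespace Groth.Agent.Lib.Cyc.PB.Univ

open Groth.Agent.Lib Groth.Agent.Lib.Cyc TensorMod TensorMod.Dual TensorMod.Gen TensorMod.Basis Sect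

section Basic

variable {X P : Scheme.{u}} {π : P ⟶ X} {E : X.Modules} {O1 : P.Modules}
  {q : (Scheme.Modules.pullback π).obj E ⟶ O1} {U : X.Opens} {n : ℕ} (e : Fin n → Γ(E, U))

variable (q) in
/-- The sections of `O(1)` given by the basis. -/
noncomputable def sec (k : Fin n) : Γ(O1, π ⁻¹ᵁ U) := q.app (π ⁻¹ᵁ U) (pbRes π E le_rfl (e k))

theorem le_preimage_of_comp {T : Scheme.{u}} {h : T ⟶ P} {g : T ⟶ X} (hg : h ≫ π = g) {W : T.Opens}
    (hW : W ≤ g ⁻¹ᵁ U) : W ≤ h ⁻¹ᵁ (π ⁻¹ᵁ U) := by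
  rw [← hg] at hW
  exact hW

/-- The composite of the universal property on sections of the basis. -/
theorem classify_app {T : Scheme.{u}} {h : T ⟶ P} {g : T ⟶ X} (hg : h ≫ π = g)
    (hU : (⊤ : T.Opens) ≤ g ⁻¹ᵁ U) {L : T.Modules} (i : (Scheme.Modules.pullback h).obj O1 ⟶ L) (k : Fin n) :
    ((Scheme.Modules.pullbackCongr hg).inv.app E ≫ (Scheme.Modules.pullbackComp h π).inv.app E ≫
      (Scheme.Modules.pullback h).map q ≫ i).app ⊤ (pbRes g E hU (e k)) =
      i.app ⊤ (pbRes h O1 (le_preimage_of_comp hg hU) (sec q e k)) := by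
  have h1 := DescAlg.PbSec.R_pbRes h hg E (le_refl (π ⁻¹ᵁ U)) (le_preimage_of_comp hg hU) (e k)
  rw [DescAlg.PbSec.R_eq] at h1
  show ((DescAlg.PbSec.tr h hg E).inv ≫ (Scheme.Modules.pullback h).map q ≫ i).app ⊤ _ = _
  rw [← h1, Scheme.Modules.Hom.comp_app, Scheme.Modules.Hom.comp_app, ConcreteCategory.comp_apply,
    ConcreteCategory.comp_apply]
  have e1 : (DescAlg.PbSec.tr h hg E).hom.app ⊤ ≫ (DescAlg.PbSec.tr h hg E).inv.app ⊤ = 𝟙 _ := by
    rw [← Scheme.Modules.Hom.comp_app, Iso.hom_inv_id]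
    rfl
  have e2 := ConcreteCategory.congr_hom e1 (pbRes h ((Scheme.Modules.pullback π).obj E)
    (le_preimage_of_comp hg hU) (pbRes π E le_rfl (e k)))
  rw [ConcreteCategory.comp_apply] at e2
  exact congrArg (i.app ⊤) ((congrArg (((Scheme.Modules.pullback h).map q).app ⊤) e2).trans
    (DescAlg.PbSec.pbRes_natural h q _ _))

variable (hP : KRR.IsProjBundle π E O1 q) (he : IsBasis e)

include hP in
theorem invertible : PicF.IsInvertible O1 := TensorMod.LocFree.isInvertible_of_rank_one hP.invertible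

/-- `h` is classified by the family `v`. -/
def Classified {T : Scheme.{u}} (h : T ⟶ P) (g : T ⟶ X) (hU : (⊤ : T.Opens) ≤ g ⁻¹ᵁ U) (L : T.Modules)
    (v : Fin n → Γ(L, ⊤)) : Prop :=
  ∃ (hg : h ≫ π = g) (i : (Scheme.Modules.pullback h).obj O1 ≅ L),
    ∀ k, i.hom.app ⊤ (pbRes h O1 (le_preimage_of_comp hg hU) (sec q e k)) = v k

include hP he in
/-- The universal property on a basis. -/
theorem existsUnique_hom {T : Scheme.{u}} (g : T ⟶ X) (hU : (⊤ : T.Opens) ≤ g ⁻¹ᵁ U) {L : T.Modules}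
    (hL : FlatMod.IsFinLocFreeOfRank 1 L) (s : (Scheme.Modules.pullback g).obj E ⟶ L) (hs : Epi s)
    (v : Fin n → Γ(L, ⊤)) (hv : ∀ k, s.app ⊤ (pbRes g E hU (e k)) = v k) :
    ∃! h : T ⟶ P, Classified (q := q) e h g hU L v := by
  obtain ⟨h, ⟨hg, i, hi⟩, huniq⟩ := hP.univ T g L hL s hs
  refine ⟨h, ⟨hg, i, fun k => ?_⟩, fun h' ⟨hg', i', hi'⟩ => huniq h' ⟨hg', i', ?_⟩⟩
  · rw [← classify_app e hg hU, hi, hv]
  · exact hom_ext_basis g hU he fun k => by rw [classify_app e hg' hU, hi', hv]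

variable (q) in
/-- The open where the `l`-th section generates. -/
noncomputable def locus (l : Fin n) : P.Opens :=
  sSup {W | ∃ hW : W ≤ π ⁻¹ᵁ U, IsGen O1 W (rs O1 hW (sec q e l))}

theorem locus_le (l : Fin n) : locus q e l ≤ π ⁻¹ᵁ U := sSup_le fun _ ⟨hW, _⟩ => hW

theorem isGen_locus (l : Fin n) : IsGen O1 (locus q e l) (rs O1 (locus_le (q := q) e l) (sec q e l)) := by
  refine GenLocal.isGen_of_forall_exists fun x hx => ?_
  obtain ⟨W, ⟨hW, hgen⟩, hxW⟩ := Opens.mem_sSup.1 hx
  refine ⟨W, le_sSup ⟨hW, hgen⟩, hxW, ?_⟩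
  rwa [rs_rs]

include hP in
theorem mem_locus {T : Scheme.{u}} (h : T ⟶ P) {l : Fin n} {S : T.Opens}
    (hS : S ≤ h ⁻¹ᵁ (π ⁻¹ᵁ U))
    (hgen : IsGen ((Scheme.Modules.pullback h).obj O1) S (pbRes h O1 hS (sec q e l))) (t : T) (ht : t ∈ S) :
    h t ∈ locus q e l := by
  obtain ⟨W₀, e₀, hxW₀, he₀⟩ := isInvertible_iff.1 (invertible hP) (h t)
  set W := W₀ ⊓ π ⁻¹ᵁ U
  have hxW : h t ∈ W := ⟨hxW₀, hS ht⟩
  have heW : IsGen O1 W (rs O1 inf_le_left e₀) := he₀.res inf_le_left
  set f := rs O1 (inf_le_left : W ≤ W₀) e₀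
  obtain ⟨a, ha⟩ := (heW W le_rfl).2 (rs O1 (inf_le_right : W ≤ π ⁻¹ᵁ U) (sec q e l))
  simp only [rs_self] at ha
  set S' := S ⊓ h ⁻¹ᵁ W with hS'
  have hS'W : S' ≤ h ⁻¹ᵁ W := inf_le_right
  have e1 : rs _ (inf_le_left : S' ≤ S) (pbRes h O1 hS (sec q e l)) =
      h.appLE W S' hS'W a • pbRes h O1 hS'W f := by
    rw [rs_pbRes, ← pbRes_smul, ha, pbRes_rs]
  obtain ⟨c, hc⟩ := (hgen S' inf_le_left).2 (pbRes h O1 hS'W f)
  simp only [e1, smul_smul] at hc
  have hone : c * h.appLE W S' hS'W a = 1 :=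
    (isGen_pbRes h heW hS'W S' le_rfl).1 (by
      show (c * _) • rs _ _ _ = (1 : Γ(T, S')) • rs _ _ _
      rw [rs_self, one_smul, hc])
  have hu : IsUnit (h.appLE W S' hS'W a) := IsUnit.of_mul_eq_one _ (by rw [mul_comm]; exact hone)
  have htS' : t ∈ S' := ⟨ht, hxW⟩
  have hmem : h t ∈ P.basicOpen a := by
    refine (P.toRingedSpace.mem_basicOpen a (h t) hxW).2 ?_
    have h2 : IsUnit ((h.stalkMap t) (P.presheaf.germ W (h t) hxW a)) := by
      rw [Scheme.Hom.germ_stalkMap_apply]
      have := hu.map (T.presheaf.germ S' t htS').hom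
      rw [Scheme.Hom.appLE, ConcreteCategory.comp_apply] at this
      exact TopCat.Presheaf.germ_res_apply T.presheaf (homOfLE hS'W) t htS' _ ▸ this
    exact isUnit_of_map_unit (h.stalkMap t).hom _ h2
  refine Opens.mem_sSup.2 ⟨P.basicOpen a, ⟨(P.basicOpen_le a).trans inf_le_right, ?_⟩, hmem⟩
  have h3 : rs O1 ((P.basicOpen_le a).trans inf_le_right) (sec q e l) =
      rf (P.basicOpen_le a) a • rs O1 (P.basicOpen_le a) f := by
    rw [← rs_smul, ha, rs_rs]
  rw [h3]
  exact GenLocal.isGen_smul (heW.res _) (P.toRingedSpace.isUnit_res_basicOpen a)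

end Basic

theorem isGen_one' (Z : Scheme.{u}) : IsGen (Coh.structureModule Z) ⊤ (one Z ⊤) :=
  Ample.GenLocus.isGen_one ⊤

theorem rank_one_structure (Z : Scheme.{u}) : FlatMod.IsFinLocFreeOfRank 1 (Coh.structureModule Z) :=
  TensorMod.LocFree.of_isInvertible (isInvertible_iff.2 fun _ => ⟨⊤, one Z ⊤, trivial, isGen_one' Z⟩)

section Chart

variable {X P : Scheme.{u}} {π : P ⟶ X} {E : X.Modules} {O1 : P.Modules}
  {q : (Scheme.Modules.pullback π).obj E ⟶ O1} {U : X.Opens} (hUa : IsAffineOpen U) {n : ℕ}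
  (e : Fin (n + 1) → Γ(E, U))

/-- The `l`-th standard chart over `U`. -/
noncomputable abbrev Std (U : X.Opens) {n : ℕ} (l : Fin (n + 1)) : Scheme.{u} :=
  Spec (CommRingCat.of (MvPolynomial (Var l) Γ(X, U)))

/-- Its structure map. -/
noncomputable def toBase (l : Fin (n + 1)) : Std U l ⟶ X :=
  Spec.map (CommRingCat.ofHom (MvPolynomial.C : Γ(X, U) →+* MvPolynomial (Var l) Γ(X, U))) ≫ hUa.fromSpec

include hUa in
theorem toBase_top (l : Fin (n + 1)) : (⊤ : (Std U l).Opens) ≤ toBase hUa l ⁻¹ᵁ U := fun z _ => by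
  show toBase hUa l z ∈ (U : Set X)
  rw [← hUa.range_fromSpec]
  exact ⟨_, rfl⟩

/-- A polynomial as a global function of the chart. -/
noncomputable abbrev fn (l : Fin (n + 1)) : MvPolynomial (Var l) Γ(X, U) →+* Γ(Std U l, ⊤) :=
  (Scheme.ΓSpecIso (CommRingCat.of (MvPolynomial (Var l) Γ(X, U)))).inv.hom

/-- The standard coordinates. -/
noncomputable def coord (l k : Fin (n + 1)) : Γ(Std U l, ⊤) :=
  if h : k = l then 1 else fn l (MvPolynomial.X ⟨k, h⟩)

variable (hP : KRR.IsProjBundle π E O1 q) (he : IsBasis e)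

include hP he in
theorem exists_chartHom (l : Fin (n + 1)) : ∃ h : Std U l ⟶ P,
    Classified (q := q) e h (toBase hUa l) (toBase_top hUa l) (Coh.structureModule _)
      (fun k => coord (U := U) l k • one (Std U l) ⊤) := by
  obtain ⟨s, hs⟩ := exists_hom_basis (toBase hUa l) (toBase_top hUa l) he
    (fun k => coord (U := U) l k • one (Std U l) ⊤)
  have hl : s.app ⊤ (pbRes (toBase hUa l) E (toBase_top hUa l) (e l)) = one (Std U l) ⊤ := by
    rw [hs, coord, dif_pos rfl, one_smul]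
  exact (existsUnique_hom e hP he _ _ (rank_one_structure _) s (epi_of_app_eq s (isGen_one' _) hl) _ hs).exists

/-- The standard chart. -/
noncomputable def chart (l : Fin (n + 1)) : Std U l ⟶ P := (exists_chartHom hUa e hP he l).choose

theorem chart_classified (l : Fin (n + 1)) : Classified (q := q) e (chart hUa e hP he l) (toBase hUa l)
    (toBase_top hUa l) (Coh.structureModule _) (fun k => coord (U := U) l k • one (Std U l) ⊤) :=
  (exists_chartHom hUa e hP he l).choose_spec

theorem chart_comp (l : Fin (n + 1)) : chart hUa e hP he l ≫ π = toBase hUa l :=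
  (chart_classified hUa e hP he l).choose

/-- The pulled back sections. -/
noncomputable abbrev csec (l k : Fin (n + 1)) :
    Γ((Scheme.Modules.pullback (chart hUa e hP he l)).obj O1, ⊤) :=
  pbRes (chart hUa e hP he l) O1
    (le_preimage_of_comp (chart_comp hUa e hP he l) (toBase_top hUa l)) (sec q e k)

theorem chart_spec (l : Fin (n + 1)) :
    IsGen _ ⊤ (csec hUa e hP he l l) ∧ ∀ k, csec hUa e hP he l k = coord (U := U) l k • csec hUa e hP he l l := by
  obtain ⟨hg, i, hi⟩ := chart_classified hUa e hP he l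
  have hb : ∀ V, Function.Bijective (i.hom.app V) := fun V => ConcreteCategory.bijective_of_isIso _
  have hl : i.hom.app ⊤ (csec hUa e hP he l l) = one (Std U l) ⊤ := by
    refine (hi l).trans ?_
    simp [coord]
  refine ⟨fun V hV => ?_, fun k => (hb ⊤).1 ?_⟩
  · refine (Function.Bijective.of_comp_iff' (hb V) _).1 ?_
    refine (iff_of_eq (congrArg Function.Bijective (funext fun a => ?_))).1
      (isGen_one' (Std U l) V hV)
    show a • rs _ hV (one (Std U l) ⊤) = i.hom.app V (a • rs _ hV (csec hUa e hP he l l))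
    rw [Scheme.Modules.Hom.app_smul, ← HomGlue.rs_app, hl]
  · rw [Scheme.Modules.Hom.app_smul, hl]
    exact hi k

theorem chart_mem (l : Fin (n + 1)) (z : Std U l) : chart hUa e hP he l z ∈ locus q e l :=
  mem_locus e hP (chart hUa e hP he l) _ (chart_spec hUa e hP he l).1 z trivial

/-- The chart lands in the locus. -/
theorem chart_top (l : Fin (n + 1)) :
    (⊤ : (Std U l).Opens) ≤ chart hUa e hP he l ⁻¹ᵁ locus q e l :=
  fun z _ => chart_mem hUa e hP he l z

/-- The coefficient of `σ_k` in terms of `σ_l`. -/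
noncomputable def coef (l k : Fin (n + 1)) : Γ(P, locus q e l) :=
  ((isGen_locus (q := q) e l (locus q e l) le_rfl).2 (rs O1 (locus_le (q := q) e l) (sec q e k))).choose

theorem coef_spec (l k : Fin (n + 1)) :
    coef (q := q) e l k • rs O1 (locus_le (q := q) e l) (sec q e l) = rs O1 (locus_le (q := q) e l) (sec q e k) := by
  have h : coef (q := q) e l k • rs O1 le_rfl (rs O1 (locus_le (q := q) e l) (sec q e l)) =
      rs O1 (locus_le (q := q) e l) (sec q e k) :=
    ((isGen_locus (q := q) e l (locus q e l) le_rfl).2 (rs O1 (locus_le (q := q) e l) (sec q e k))).choose_spec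
  rwa [rs_self] at h

theorem chart_coef (l k : Fin (n + 1)) :
    (chart hUa e hP he l).appLE (locus q e l) ⊤ (chart_top hUa e hP he l) (coef e l k) = coord (U := U) l k := by
  have h1 := congrArg (pbRes (chart hUa e hP he l) O1 (chart_top hUa e hP he l)) (coef_spec (q := q) e l k)
  rw [pbRes_smul, pbRes_rs, pbRes_rs] at h1
  refine ((chart_spec hUa e hP he l).1 ⊤ le_rfl).1 ?_
  show _ • rs _ _ (csec hUa e hP he l l) = _ • rs _ _ (csec hUa e hP he l l)
  rw [rs_self, ← (chart_spec hUa e hP he l).2 k]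
  exact h1

/-- The coordinate map on the locus. -/
noncomputable def psi (l : Fin (n + 1)) : MvPolynomial (Var l) Γ(X, U) →+* Γ(P, locus q e l) :=
  eval₂Hom (π.appLE U (locus q e l) (locus_le (q := q) e l)).hom fun k => coef e l k.1

theorem psi_C (l : Fin (n + 1)) (a : Γ(X, U)) :
    psi (q := q) e l (C a) = π.appLE U (locus q e l) (locus_le (q := q) e l) a := eval₂Hom_C _ _ a

/-- The inverse of the chart. -/
noncomputable def coordMap (l : Fin (n + 1)) : (locus q e l).toScheme ⟶ Std U l :=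
  (locus q e l).toSpecΓ ≫ Spec.map (CommRingCat.ofHom (psi e l))

theorem coordMap_toBase (l : Fin (n + 1)) :
    coordMap (q := q) e l ≫ toBase hUa l = (locus q e l).ι ≫ π := by
  have h : CommRingCat.ofHom (MvPolynomial.C : Γ(X, U) →+* MvPolynomial (Var l) Γ(X, U)) ≫
      CommRingCat.ofHom (psi (q := q) e l) = π.appLE U (locus q e l) (locus_le (q := q) e l) := by
    ext a
    exact psi_C e l a
  rw [coordMap, toBase, Category.assoc, ← Spec.map_comp_assoc, h,
    Scheme.Opens.toSpecΓ_SpecMap_appLE_assoc, hUa.toSpecΓ_fromSpec, Scheme.Hom.resLE_comp_ι]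

theorem coordMap_appLE (l : Fin (n + 1)) (f : MvPolynomial (Var l) Γ(X, U)) :
    (coordMap (q := q) e l).appTop (fn l f) = (locus q e l).topIso.inv (psi e l f) := by
  have h : (Scheme.ΓSpecIso _).inv ≫ (coordMap (q := q) e l).appTop =
      CommRingCat.ofHom (psi (q := q) e l) ≫ (locus q e l).topIso.inv := by
    rw [coordMap, Scheme.Hom.comp_appTop, Scheme.Opens.toSpecΓ_appTop]
    rw [← Scheme.ΓSpecIso_inv_naturality_assoc]
    simp
  exact ConcreteCategory.congr_hom h f

include hP he in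
theorem coordMap_chart (l : Fin (n + 1)) :
    coordMap (q := q) e l ≫ chart hUa e hP he l = (locus q e l).ι := by
  set D := locus q e l
  have hD : (⊤ : D.toScheme.Opens) ≤ D.ι ⁻¹ᵁ D := fun x _ => x.2
  have hU : (⊤ : D.toScheme.Opens) ≤ (D.ι ≫ π) ⁻¹ᵁ U := fun x _ => locus_le (q := q) e l x.2
  haveI := hP.epi
  haveI : PreservesColimitsOfSize.{0, 0} (Scheme.Modules.pullback D.ι) :=
    (Scheme.Modules.pullbackPushforwardAdjunction D.ι).leftAdjoint_preservesColimits
  set L := (Scheme.Modules.pullback D.ι).obj O1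
  have hL : FlatMod.IsFinLocFreeOfRank 1 L := by
    refine TensorMod.LocFree.of_isInvertible (isInvertible_iff.2 fun x => ?_)
    exact ⟨⊤, pbRes D.ι O1 hD (rs O1 (locus_le (q := q) e l) (sec q e l)), trivial,
      isGen_pbRes D.ι (isGen_locus e l) hD⟩
  let s := (Scheme.Modules.pullbackCongr (rfl : D.ι ≫ π = D.ι ≫ π)).inv.app E ≫
    (Scheme.Modules.pullbackComp D.ι π).inv.app E ≫ (Scheme.Modules.pullback D.ι).map q ≫ 𝟙 L
  have hs : Epi s := by
    haveI : Epi ((Scheme.Modules.pullback D.ι).map q) := inferInstance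
    infer_instance
  refine (existsUnique_hom e hP he (D.ι ≫ π) hU hL s hs _ fun k => classify_app e rfl hU (𝟙 L) k).unique
    ⟨by rw [Category.assoc, chart_comp, coordMap_toBase], ?_⟩ ⟨rfl, Iso.refl _, fun k => rfl⟩
  set φ := coordMap (q := q) e l
  set c := chart hUa e hP he l
  have hgen : IsGen ((Scheme.Modules.pullback (φ ≫ c)).obj O1) ⊤
      (pbRes (φ ≫ c) O1 (show (⊤ : D.toScheme.Opens) ≤ (φ ≫ c) ⁻¹ᵁ D from fun x _ => chart_mem hUa e hP he l (φ x))
        (rs O1 (locus_le (q := q) e l) (sec q e l))) := isGen_pbRes _ (isGen_locus e l) _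
  obtain ⟨i, hi⟩ := exists_iso_of_gen_top hgen (isGen_pbRes D.ι (isGen_locus (q := q) e l) hD)
  refine ⟨i, fun k => ?_⟩
  rw [pbRes_rs, pbRes_rs] at hi
  have key : pbRes (φ ≫ c) O1 (le_preimage_of_comp (by rw [Category.assoc, chart_comp, coordMap_toBase]) hU)
      (sec q e k) = φ.appLE ⊤ ⊤ le_top (coord (U := U) l k) • pbRes (φ ≫ c) O1
        (le_preimage_of_comp (by rw [Category.assoc, chart_comp, coordMap_toBase]) hU) (sec q e l) := by
    have h1 := congrArg (DescAlg.PbSec.R φ (rfl : φ ≫ c = φ ≫ c) O1 (W := ⊤) (W' := ⊤) le_top)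
      ((chart_spec hUa e hP he l).2 k)
    rw [DescAlg.PbSec.R_smul, DescAlg.PbSec.R_pbRes, DescAlg.PbSec.R_pbRes] at h1
    exact h1
  have hcoef : φ.appLE ⊤ ⊤ le_top (coord (U := U) l k) = D.ι.appLE D ⊤ hD (coef e l k) := by
    have e1 : φ.appLE ⊤ ⊤ le_top = φ.appTop := (Scheme.Hom.app_eq_appLE φ).symm
    have e2 : D.ι.appLE D ⊤ hD = D.topIso.inv := by
      simp [Scheme.Opens.topIso, Scheme.Opens.ι_appLE]
      rfl
    rw [e1, e2, coord]
    by_cases h : k = l
    · subst h
      rw [dif_pos rfl, map_one]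
      have : coef (q := q) e k k = 1 := (isGen_locus (q := q) e k D le_rfl).1 (by
        show coef e k k • rs O1 _ _ = (1 : Γ(P, D)) • rs O1 _ _
        rw [rs_rs, coef_spec, one_smul])
      rw [this, map_one]
    · rw [dif_neg h, coordMap_appLE, psi, eval₂Hom_X']
  rw [key, Scheme.Modules.Hom.app_smul, hi, hcoef]
  show _ = pbRes D.ι O1 _ (sec q e k)
  rw [← pbRes_rs D.ι O1 (locus_le (q := q) e l) hD (sec q e k), ← coef_spec, pbRes_smul, pbRes_rs]

theorem lift_comp_coordMap (l : Fin (n + 1))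
    (h' : Std U l ⟶ (locus q e l).toScheme) (h : h' ≫ (locus q e l).ι = chart hUa e hP he l) :
    h' ≫ coordMap (q := q) e l = 𝟙 _ := by
  have hring : ∀ f, (h' ≫ coordMap (q := q) e l).appTop (fn l f) =
      (chart hUa e hP he l).appLE (locus q e l) ⊤ (chart_top hUa e hP he l) (psi e l f) := fun f => by
    have e1 : (locus q e l).topIso.inv ≫ h'.appTop = (chart hUa e hP he l).appLE (locus q e l) ⊤ (chart_top hUa e hP he l) := by
      rw [congr_appLE h.symm, ← Scheme.Hom.appLE_comp_appLE h' (locus q e l).ι (locus q e l) ⊤ ⊤ (fun x _ => x.2) le_top]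
      simp [Scheme.Opens.topIso, Scheme.Opens.ι_appLE, Scheme.Hom.app_eq_appLE]
      rfl
    rw [Scheme.Hom.comp_appTop, ConcreteCategory.comp_apply, coordMap_appLE]
    exact ConcreteCategory.congr_hom e1 _
  have hC : ∀ a, (chart hUa e hP he l).appLE (locus q e l) ⊤ (chart_top hUa e hP he l) (psi e l (C a)) = fn l (C a) := by
    intro a
    rw [psi_C, ← ConcreteCategory.comp_apply, Scheme.Hom.appLE_comp_appLE]
    refine (ConcreteCategory.congr_hom (congr_appLE (show chart hUa e hP he l ≫ π =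
      Spec.map (CommRingCat.ofHom (MvPolynomial.C : Γ(X, U) →+* MvPolynomial (Var l) Γ(X, U))) ≫ hUa.fromSpec
      from chart_comp hUa e hP he l) U ⊤ _) a).trans ?_
    have e1 : (⊤ : (Spec Γ(X, U)).Opens) ≤ hUa.fromSpec ⁻¹ᵁ U := hUa.fromSpec_preimage_self.ge
    rw [← Scheme.Hom.appLE_comp_appLE _ hUa.fromSpec U ⊤ ⊤ e1 le_top]
    have e2 : hUa.fromSpec.appLE U ⊤ e1 = (Scheme.ΓSpecIso Γ(X, U)).inv := by
      rw [Scheme.Hom.appLE, hUa.fromSpec_app_self]
      simp
      rw [← Functor.map_comp, Subsingleton.elim (eqToHom _ ≫ (homOfLE e1).op) (𝟙 _),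
        CategoryTheory.Functor.map_id, Category.comp_id]
    have e3 : ∀ {A B : Scheme.{u}} (g : A ⟶ B), g.appLE ⊤ ⊤ le_top = g.appTop :=
      fun g => (Scheme.Hom.app_eq_appLE g).symm
    rw [e2, e3, ← Scheme.ΓSpecIso_inv_naturality]
    rfl
  refine (Spec.map_preimage (h' ≫ coordMap (q := q) e l)).symm.trans ?_
  rw [← Spec.map_id]
  congr 1
  apply (cancel_mono (Scheme.ΓSpecIso (CommRingCat.of (MvPolynomial (Var l) Γ(X, U)))).inv).1
  rw [Scheme.ΓSpecIso_inv_naturality, Spec.map_preimage, Category.id_comp]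
  refine CommRingCat.hom_ext (MvPolynomial.ringHom_ext (fun a => ?_) (fun k => ?_))
  · exact (hring _).trans (hC a)
  · refine (hring _).trans ?_
    rw [psi, eval₂Hom_X', chart_coef, coord, dif_neg k.2]

theorem isOpenImmersion_chart (l : Fin (n + 1)) : IsOpenImmersion (chart hUa e hP he l) := by
  set D := locus q e l
  let h' : Std U l ⟶ D.toScheme := IsOpenImmersion.lift D.ι (chart hUa e hP he l) (by
    rintro _ ⟨z, rfl⟩
    rw [Scheme.Opens.range_ι]
    exact chart_mem hUa e hP he l z)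
  have h : h' ≫ D.ι = chart hUa e hP he l := IsOpenImmersion.lift_fac _ _ _
  haveI : IsIso h' := ⟨coordMap e l, lift_comp_coordMap hUa e hP he l h' h, by
    rw [← cancel_mono D.ι, Category.assoc, h, coordMap_chart, Category.id_comp]⟩
  rw [← h]
  infer_instance

theorem range_chart (l : Fin (n + 1)) : Set.range (chart hUa e hP he l) = (locus q e l : Set P) := by
  refine Set.Subset.antisymm (Set.range_subset_iff.2 (chart_mem hUa e hP he l)) fun x hx => ?_
  exact ⟨coordMap (q := q) e l ⟨x, hx⟩, by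
    rw [← Scheme.Hom.comp_apply, coordMap_chart]; rfl⟩

theorem mem_range_iff (l : Fin (n + 1)) (k : Var l) (z : Std U l) :
    chart hUa e hP he l z ∈ locus q e k.1 ↔ (MvPolynomial.X k : MvPolynomial (Var l) Γ(X, U)) ∉ z.asIdeal := by
  obtain ⟨hgen, hk⟩ := chart_spec hUa e hP he l
  have hck : coord (U := U) l k.1 = fn l (MvPolynomial.X k) := by rw [coord, dif_neg k.2]
  have hbo : z ∈ (Std U l).basicOpen (coord (U := U) l k.1) ↔
      (MvPolynomial.X k : MvPolynomial (Var l) Γ(X, U)) ∉ z.asIdeal := by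
    rw [hck, basicOpen_eq_of_affine']
    show _ ∈ PrimeSpectrum.basicOpen _ ↔ _
    rw [PrimeSpectrum.mem_basicOpen]
    simp
  rw [← hbo]
  constructor
  · intro hz
    set S := chart hUa e hP he l ⁻¹ᵁ locus q e k.1
    have h1 := isGen_pbRes (chart hUa e hP he l) (isGen_locus (q := q) e k.1) (le_refl S)
    rw [pbRes_rs] at h1
    obtain ⟨c, hc⟩ := (h1 S le_rfl).2 (rs _ le_top (csec hUa e hP he l l))
    simp only [rs_self] at hc
    have h2 := congrArg (rs _ (le_top : S ≤ ⊤)) (hk k.1)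
    rw [rs_pbRes, rs_smul] at h2
    rw [h2, smul_smul] at hc
    have hone : c * rf le_top (coord (U := U) l k.1) = 1 := (hgen S le_top).1 (by
      show (c * _) • rs _ _ _ = (1 : Γ(Std U l, S)) • rs _ _ _
      rw [one_smul]
      exact hc)
    have hu : IsUnit (rf (le_top : S ≤ ⊤) (coord (U := U) l k.1)) :=
      IsUnit.of_mul_eq_one _ (by rw [mul_comm]; exact hone)
    refine ((Std U l).toRingedSpace.mem_basicOpen (coord (U := U) l k.1) z trivial).2 ?_
    have := hu.map ((Std U l).presheaf.germ S z hz).hom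
    rwa [TopCat.Presheaf.germ_res_apply] at this
  · intro hz
    refine mem_locus e hP (chart hUa e hP he l) (S := (Std U l).basicOpen (coord (U := U) l k.1))
      (le_top.trans (le_preimage_of_comp (chart_comp hUa e hP he l) (toBase_top hUa l))) ?_ z hz
    have h2 := congrArg (rs _ (le_top : (Std U l).basicOpen (coord (U := U) l k.1) ≤ ⊤)) (hk k.1)
    rw [rs_pbRes, rs_smul] at h2
    rw [h2]
    exact GenLocal.isGen_smul (hgen.res le_top) ((Std U l).toRingedSpace.isUnit_res_basicOpen _)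

include hP he in
/-- The loci cover `π⁻¹U`. -/
theorem exists_mem_locus (x : P) (hx : π x ∈ U) : ∃ l, x ∈ locus q e l := by
  by_contra! hne
  set j := P.fromSpecResidueField x
  have hU : (⊤ : (Spec (P.residueField x)).Opens) ≤ (j ≫ π) ⁻¹ᵁ U := fun z _ => by
    show π (j z) ∈ U
    rw [show j z = x from Scheme.fromSpecResidueField_apply _ _]
    exact hx
  obtain ⟨W, f, hxW, hf⟩ := isInvertible_iff.1 (invertible hP) x
  have hW : (⊤ : (Spec (P.residueField x)).Opens) ≤ j ⁻¹ᵁ W := fun z _ => by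
    show j z ∈ W
    rw [show j z = x from Scheme.fromSpecResidueField_apply _ _]
    exact hxW
  have hgen := isGen_pbRes j hf hW
  let s := (Scheme.Modules.pullbackCongr (rfl : j ≫ π = j ≫ π)).inv.app E ≫
    (Scheme.Modules.pullbackComp j π).inv.app E ≫ (Scheme.Modules.pullback j).map q ≫ 𝟙 _
  haveI := hP.epi
  haveI : PreservesColimitsOfSize.{0, 0} (Scheme.Modules.pullback j) :=
    (Scheme.Modules.pullbackPushforwardAdjunction j).leftAdjoint_preservesColimits
  have hs : Epi s := by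
    haveI : Epi ((Scheme.Modules.pullback j).map q) := inferInstance
    infer_instance
  have hzero : ∀ k, pbRes j O1 (le_preimage_of_comp rfl hU) (sec q e k) = 0 := by
    intro k
    obtain ⟨a, ha⟩ := (hgen ⊤ le_rfl).2 (pbRes j O1 (le_preimage_of_comp rfl hU) (sec q e k))
    simp only [rs_self] at ha
    by_contra hk
    have ha0 : a ≠ 0 := fun h0 => hk (by rw [← ha, h0, zero_smul])
    have hu : IsUnit a := by
      let ρ : Γ(Spec (P.residueField x), ⊤) ≃+* P.residueField x :=
        (Scheme.ΓSpecIso (P.residueField x)).commRingCatIsoToRingEquiv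
      exact (isUnit_map_iff ρ a).1 (IsUnit.mk0 _ ((map_ne_zero_iff _ ρ.injective).2 ha0))
    have := mem_locus e hP j (le_preimage_of_comp rfl hU) (ha ▸ GenLocal.isGen_smul hgen hu)
      (genericPoint _) trivial
    rw [show j (genericPoint _) = x from Scheme.fromSpecResidueField_apply _ _] at this
    exact hne k this
  have hs0 : s = 0 := hom_ext_basis (j ≫ π) hU he fun k => by
    refine (classify_app e rfl hU (𝟙 _) k).trans ?_
    rw [hzero, map_zero]
    rfl
  have hid : 𝟙 ((Scheme.Modules.pullback j).obj O1) = 0 := by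
    rw [← cancel_epi s, Category.comp_id, comp_zero, hs0]
  have h0 : pbRes j O1 hW f = 0 := by
    have := congrArg (fun φ => φ.app ⊤ (pbRes j O1 hW f)) hid
    exact this
  have h10 : (1 : Γ(Spec (P.residueField x), ⊤)) = 0 := (hgen ⊤ le_rfl).1 (by
    show (1 : Γ(Spec (P.residueField x), ⊤)) • rs _ _ _ = (0 : Γ(Spec (P.residueField x), ⊤)) • rs _ _ _
    rw [rs_self, h0, smul_zero, smul_zero])
  have := congrArg (Scheme.ΓSpecIso (P.residueField x)).hom h10
  rw [map_one, map_zero] at this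
  exact one_ne_zero this

end Chart

/-- Frames of a projective bundle. -/
theorem nonempty_frame {X P : Scheme.{u}} {π : P ⟶ X} {E : X.Modules} {O1 : P.Modules}
    {q : (Scheme.Modules.pullback π).obj E ⟶ O1} (hP : KRR.IsProjBundle π E O1 q) {n : ℕ}
    (hE : FlatMod.IsFinLocFreeOfRank (n + 1) E) (η : X) : Nonempty (Frame π O1 n η) := by
  obtain ⟨V, hηV, ⟨i⟩⟩ := hE η
  obtain ⟨e₀, he₀⟩ := TensorMod.Basis.exists_basis_of_iso i
  obtain ⟨_, ⟨U, hUa, rfl⟩, hη, hUV⟩ :=
    X.isBasis_affineOpens.exists_subset_of_mem_open hηV V.2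
  replace hUa : IsAffineOpen U := hUa
  have he := he₀.res (show U ≤ V from hUV)
  set e := fun k => rs E (show U ≤ V from hUV) (e₀ k)
  refine ⟨{
    A := Γ(X, U)
    b := hUa.fromSpec
    b_open := inferInstance
    a := hUa.primeIdealOf ⟨η, hη⟩
    ba := hUa.fromSpec_primeIdealOf ⟨η, hη⟩
    e := chart hUa e hP he
    e_open := isOpenImmersion_chart hUa e hP he
    w := chart_comp hUa e hP he
    cover := fun x hx => ?_
    mem_iff := fun l k z => ?_
    W := π ⁻¹ᵁ U
    W_mem := fun x hx => show π x ∈ U from hx ▸ hη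
    σ := sec q e
    gen := fun l x hx hxl => ?_
    rel := fun l k z hz => ?_ }⟩
  · obtain ⟨l, hl⟩ := exists_mem_locus e hP he x (hx ▸ hη)
    exact ⟨l, (range_chart hUa e hP he l).ge hl⟩
  · rw [range_chart]
    exact mem_range_iff hUa e hP he l k z
  · rw [range_chart] at hxl
    have := span_germ_eq_top (isGen_locus (q := q) e l) x hxl
    rwa [TopCat.Presheaf.germ_res_apply] at this
  · have hzD := chart_mem hUa e hP he l z
    refine ⟨P.presheaf.germ _ _ hzD (coef e l k.1), ?_, ?_⟩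
    · have := congrArg (O1.presheaf.germ (locus q e l) _ hzD) (coef_spec (q := q) e l k.1)
      rw [Modules.StalkModule.germ_smul, TopCat.Presheaf.germ_res_apply,
        TopCat.Presheaf.germ_res_apply] at this
      exact this.symm
    · have h4 := chart_coef hUa e hP he l k.1
      rw [show coord (U := U) l k.1 = fn l (MvPolynomial.X k) by rw [coord, dif_neg k.2],
        Scheme.Hom.appLE, ConcreteCategory.comp_apply] at h4
      rw [Scheme.Hom.germ_stalkMap_apply]
      refine Eq.trans ?_ (congrArg ((Std U l).presheaf.germ ⊤ z trivial) h4)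
      exact (TopCat.Presheaf.germ_res_apply _ (homOfLE (chart_top hUa e hP he l)) z trivial _).symm

end Groth.Agent.Lib.Cyc.PB.Univ
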