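import Groth.Agent.Lib.Cyc.PB.Frame

/-!
# Dimensions, length and degree
-/

set_option autoImplicit false
set_option linter.style.haveILetI false
universe u

open CategoryTheory CategoryTheory.Limits AlgebraicGeometry MvPolynomial

namespace Groth.Agent.Lib.Cyc.PB.Frame

open Groth.Agent.Lib Groth.Agent.Lib.Cyc

variable {P X : Scheme.{u}} {p : P ⟶ X} {L : P.Modules} {n : ℕ} {η : X} (F : Frame p L n η)
  {δP : P → ℤ} {δX : X → ℤ}

theorem pt_specializes_succ {j : ℕ} (hj : j < n) : F.pt j ⤳ F.pt (j + 1) :=
  F.pt_specializes hj.le (F.p_pt _) fun k hk => F.pt_notMem (by omega) (by omega)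

theorem pt_ne_succ {j : ℕ} (hj : j < n) : F.pt j ≠ F.pt (j + 1) := fun e =>
  F.pt_notMem (j := j + 1) (k := ⟨j, by omega⟩) (by omega) (by simp) (e ▸ F.pt_mem_self hj.le)

theorem trdegAt_mvPolynomial (K : Type u) [Field K] (σ : Type) [Finite σ] :
    Residue.trdegAt (Spec.map (CommRingCat.ofHom (MvPolynomial.C : K →+* MvPolynomial σ K)))
      (genericPoint (Spec (CommRingCat.of (MvPolynomial σ K)))) = Nat.card σ := by
  set q := Spec.map (CommRingCat.ofHom (MvPolynomial.C : K →+* MvPolynomial σ K))
  haveI : LocallyOfFiniteType q := by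
    rw [HasRingHomProperty.Spec_iff (P := @LocallyOfFiniteType)]
    exact (RingHom.finiteType_algebraMap (A := K) (B := MvPolynomial σ K)).2 inferInstance
  rw [FieldDim.trdegAt_eq_fdelta]
  have h := FieldDim.topologicalKrullDim_closure q (genericPoint (Spec (CommRingCat.of (MvPolynomial σ K))))
  have h' : topologicalKrullDim (closure ({genericPoint (Spec (CommRingCat.of (MvPolynomial σ K)))} :
      Set (Spec (CommRingCat.of (MvPolynomial σ K))))) = (Nat.card σ : WithBot ℕ∞) := by
    rw [genericPoint_closure, IsHomeomorph.topologicalKrullDim_eq _ (Homeomorph.Set.univ _).isHomeomorph]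
    show topologicalKrullDim (PrimeSpectrum (MvPolynomial σ K)) = _
    rw [PrimeSpectrum.topologicalKrullDim_eq_ringKrullDim, MvPolynomial.ringKrullDim_of_isNoetherianRing,
      ringKrullDim_eq_zero_of_field, zero_add]
  rw [h'] at h
  exact_mod_cast h.symm

theorem fibLen_openImm {W : Scheme.{u}} [IsLocallyNoetherian W] (e : W ⟶ P) [IsOpenImmersion e] (w : W) :
    FibLen.fibLen e w = 1 := by
  refine LimCyc.fibLen_eq_one e w (le_antisymm (Ideal.map_le_iff_le_comap.2 ?_) ?_)
  · intro a ha
    rw [Ideal.mem_comap, IsLocalRing.mem_maximalIdeal, mem_nonunits_iff]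
    exact fun hu => ha (IsUnit.of_map (e.stalkMap w).hom a hu)
  · intro b hb
    obtain ⟨a, rfl⟩ := e.stalkMap_surjective w b
    exact Ideal.mem_map_of_mem _ fun hu => hb (hu.map (e.stalkMap w).hom)

variable [IsLocallyNoetherian P] [IsLocallyNoetherian X]

omit [IsLocallyNoetherian P] in
theorem isNoetherianRing : IsNoetherianRing F.A := by
  haveI : IsLocallyNoetherian (Spec F.A) := isLocallyNoetherian_of_isOpenImmersion F.b
  have := IsLocallyNoetherian.component_noetherian (X := Spec F.A) ⟨⊤, isAffineOpen_top _⟩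
  exact isNoetherianRing_of_ringEquiv _ (Scheme.ΓSpecIso F.A).commRingCatIsoToRingEquiv

variable (hP : Cyc.IsDimFun P δP) (hδ : Cyc.DeltaCompat p δP δX)

include hP hδ in
theorem len_and_delta : FibLen.fibLen p (F.pt 0) = 1 ∧ δP (F.pt 0) = δX η + n := by
  haveI := F.isNoetherianRing
  set l : Fin (n + 1) := ⟨0, by omega⟩
  let e := F.e l
  haveI : IsLocallyNoetherian (Spec (CommRingCat.of (MvPolynomial (Var l) F.A))) := inferInstance
  haveI : IsLocallyNoetherian (Spec (CommRingCat.of (MvPolynomial (Var l) F.K))) := inferInstance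
  haveI : IsPreimmersion (Spec.map (CommRingCat.ofHom F.φ) ≫ F.b) := by
    rw [F.specMap_φ]; infer_instance
  have H : IsPullback (Spec.map (CommRingCat.ofHom (MvPolynomial.map (σ := Var l) F.φ)))
      (Spec.map (CommRingCat.ofHom (MvPolynomial.C : F.K →+* MvPolynomial (Var l) F.K)))
      (e ≫ p) (Spec.map (CommRingCat.ofHom F.φ) ≫ F.b) := by
    rw [F.w l]
    have h0 := F.isPullback l
    refine IsPullback.of_isLimit' ⟨by simp only [← Category.assoc, h0.w]⟩
      (PullbackCone.IsLimit.mk _ (fun s => h0.lift s.fst s.snd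
        ((cancel_mono F.b).1 (by simpa using s.condition))) (fun s => h0.lift_fst _ _ _)
        (fun s => h0.lift_snd _ _ _) fun s m h1 h2 => h0.hom_ext (by rw [h0.lift_fst]; exact h1)
          (by rw [h0.lift_snd]; exact h2))
  have hK : AffFib.Kill.KillsAll (Spec (CommRingCat.of (MvPolynomial (Var l) F.K))) := by
    haveI : IsLocallyNoetherian (Scheme.Spec.obj (Opposite.op (CommRingCat.of (MvPolynomial (Var l) F.K)))) :=
      inferInstanceAs (IsLocallyNoetherian (Spec (CommRingCat.of (MvPolynomial (Var l) F.K))))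
    haveI : IsLocallyNoetherian (Scheme.Spec.obj (Opposite.op
        (CommRingCat.of (MvPolynomial (Fin (Fintype.card (Var l))) F.K)))) :=
      inferInstanceAs (IsLocallyNoetherian (Spec (CommRingCat.of (MvPolynomial (Fin (Fintype.card (Var l))) F.K))))
    exact AffFib.Kill.KillsAll.of_iso (Scheme.Spec.mapIso
      ((renameEquiv F.K (Fintype.equivFin (Var l))).toRingEquiv.toCommRingCatIso.op))
      (AffFib.Affine.killsAll_mvPolynomial F.K _)
  have hη : (Spec.map (CommRingCat.ofHom F.φ) ≫ F.b) (genericPoint (Spec (CommRingCat.of F.K))) = η := by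
    rw [Scheme.Hom.comp_apply, F.specMap_φ]
    exact (congrArg F.b (Scheme.fromSpecResidueField_apply _ _)).trans F.ba
  obtain ⟨ζ, hζ, hfζ, hlen, htr, -⟩ := AffFib.Fibre.exists_gen H hK
    (PP.OpenImm.isDimFun e hP) η hη
  have hgen : e ζ = F.pt 0 := by
    rw [hζ, ← F.c_generic_eq (Nat.zero_le n) (l := l) le_rfl]
    refine (Specializes.antisymm (x := e (Spec.map (CommRingCat.ofHom
      (MvPolynomial.map (σ := Var l) F.φ)) (genericPoint _))) (y := F.c 0 l (genericPoint _)) ?_ ?_).eq
    · obtain ⟨w, hw⟩ : F.c 0 l (genericPoint _) ∈ Set.range (Spec.map (CommRingCat.ofHom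
          (MvPolynomial.map (σ := Var l) F.φ)) ≫ e) :=
        ⟨Spec.map (CommRingCat.ofHom (F.kill 0 l)) (genericPoint _), rfl⟩
      rw [← hw]
      exact (genericPoint_specializes w).map (Spec.map (CommRingCat.ofHom
        (MvPolynomial.map (σ := Var l) F.φ)) ≫ e).continuous
    · rw [F.c_generic_eq (Nat.zero_le n) (l := l) le_rfl]
      exact F.pt_specializes (Nat.zero_le n) (by subst hζ; exact hfζ)
        fun k hk => absurd hk (by omega)
  haveI : Flat e := inferInstance
  refine ⟨?_, ?_⟩
  · rw [FibLen.fibLen_comp e p ζ, fibLen_openImm e ζ, mul_one, hgen] at hlen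
    exact hlen
  · rw [Residue.trdegAt_comp, FieldDim.trdegAt_eq_zero_of_surjective e _
      (FieldDim.residueFieldMap_surjective (f := e) _), add_zero, hgen, trdegAt_mvPolynomial] at htr
    obtain ⟨m, hm, hδm⟩ := hδ (F.pt 0)
    have hm' : (m : Cardinal.{u}) = (Nat.card (Var l) : ℕ) := hm.symm.trans htr
    have := Nat.cast_injective hm'
    rw [F.p_pt] at hδm
    rw [Nat.card_eq_fintype_card, Fintype.card_subtype_compl, Fintype.card_fin,
      Fintype.card_subtype_eq] at this
    omega

include hP hδ in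
theorem delta_pt {j : ℕ} (hj : j ≤ n) : δP (F.pt j) = δX η + n - j := by
  have hstep : ∀ i, i < n → δP (F.pt (i + 1)) < δP (F.pt i) := fun i hi =>
    DimFun.lt_of_specializes hP (F.pt_specializes_succ hi) (F.pt_ne_succ hi)
  have up : ∀ i, i ≤ n → δP (F.pt i) ≤ δX η + n - i := fun i hi => by
    induction i with
    | zero => rw [(F.len_and_delta hP hδ).2]; simp
    | succ i ih =>
      have := hstep i (by omega)
      have := ih (by omega)
      push_cast
      omega
  have down : ∀ d i, i + d = n → δX η + d ≤ δP (F.pt i) := fun d => by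
    induction d with
    | zero =>
      intro i hi
      have := Residue.deltaY_le hδ (F.pt i)
      rw [F.p_pt] at this
      simpa using this
    | succ d ih =>
      intro i hi
      have := hstep i (by omega)
      have := ih (i + 1) (by omega)
      push_cast
      omega
  have h1 := up j hj
  have h2 := down (n - j) j (by omega)
  omega

omit [IsLocallyNoetherian P] [IsLocallyNoetherian X] in
theorem residueDegree_pt : p.residueDegree (F.pt n) = 1 := by
  set l : Fin (n + 1) := ⟨n, by omega⟩
  haveI : IsEmpty (Idx n l) := ⟨fun k => k.2.2 (Fin.ext (by simp only [l]; have := k.1.2; have := k.2.1; omega))⟩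
  have hw : F.c n l ≫ p = Spec.map (CommRingCat.ofHom (C : F.K →+* MvPolynomial (Idx n l) F.K)) ≫
      Spec.map (CommRingCat.ofHom F.φ) ≫ F.b := by
    rw [c, Category.assoc, F.w l, ← Spec.map_comp_assoc, ← Spec.map_comp_assoc]
    congr 2
    ext r : 2
    exact F.ψ_C n l r
  haveI : IsIso (Spec.map (CommRingCat.ofHom (C : F.K →+* MvPolynomial (Idx n l) F.K))) := by
    haveI : IsIso (CommRingCat.ofHom (C : F.K →+* MvPolynomial (Idx n l) F.K)) :=
      (ConcreteCategory.isIso_iff_bijective _).2 ⟨C_injective _ _, C_surjective _⟩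
    infer_instance
  haveI : IsPreimmersion (F.c n l ≫ p) := by
    rw [hw, F.specMap_φ]; infer_instance
  rw [F.pt_eq le_rfl]
  refine Residue.residueDegree_eq_one_of_surjective _ fun y => ?_
  obtain ⟨r, hr⟩ := FieldDim.residueFieldMap_surjective (f := F.c n l ≫ p)
    (genericPoint _) ((F.c n l).residueFieldMap (genericPoint _) y)
  rw [Scheme.residueFieldMap_comp] at hr
  exact ⟨r, (PP.OpenImm.residue_bijective (F.c n l) _).1 hr⟩

end Groth.Agent.Lib.Cyc.PB.Frame
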