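import Groth.Agent.Lib.Cyc.PB.Thms
import Groth.Agent.Lib.Cyc.C1

/-!
# Generation
-/

set_option autoImplicit false
set_option linter.style.haveILetI false
universe u

open CategoryTheory AlgebraicGeometry

namespace Groth.Agent.Lib.Cyc.PB.Span

open Groth.Agent.Lib Groth.Agent.Lib.Cyc Groth.Agent.Lib.Cyc.PB
open Groth.Agent.Lib.Cyc.PB.Chain (IsChain)

variable {P X : Scheme.{u}} [IsLocallyNoetherian P] {f : P ⟶ X}
  {δP : P → ℤ} {δX : X → ℤ} {n : ℕ} {L : P.Modules}

theorem exists_cycle_of_family (hP : Cyc.IsDimFun P δP) {ι : Type u} (ξ : ι → P)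
    (g : ∀ i, P.residueField (ξ i))
    (hlf : ∀ x : P, ∃ U : Set P, IsOpen U ∧ x ∈ U ∧ {i | (closure {ξ i} ∩ U).Nonempty}.Finite) :
    ∃ R : AlgebraicCycle P ℤ, ∀ x, R x = ∑ᶠ i, Cyc.divFun δP (ξ i) (g i) x := by
  refine ⟨⟨fun x => ∑ᶠ i, Cyc.divFun δP (ξ i) (g i) x, fun _ _ => trivial, fun z _ => ?_⟩,
    fun _ => rfl⟩
  obtain ⟨U, hU, hzU, hfin⟩ := hlf z
  choose W hW hzW hWfin using fun i => Ord.exists_open_finite_divFun hP (ξ i) (g i) z
  refine ⟨U ∩ ⋂ i ∈ hfin.toFinset, W i,
    (hU.inter (isOpen_biInter_finset fun i _ => hW i)).mem_nhds ⟨hzU, Set.mem_iInter₂.2 fun i _ => hzW i⟩,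
    ((hfin.toFinset.finite_toSet).biUnion fun i _ => hWfin i).subset ?_⟩
  rintro x ⟨⟨hxU, hxW⟩, hx⟩
  obtain ⟨i, hi⟩ : ∃ i, Cyc.divFun δP (ξ i) (g i) x ≠ 0 := by
    by_contra! h
    exact hx (finsum_eq_zero_of_forall_eq_zero h)
  have hmem : i ∈ hfin.toFinset := hfin.mem_toFinset.2 ⟨x, specializes_iff_mem_closure.1 (by
    by_contra hs
    exact hi (Ord.divFun_eq_zero_of_not_specializes δP _ _ _ hs)), hxU⟩
  exact Set.mem_biUnion hmem ⟨Set.mem_iInter₂.1 hxW i hmem, hi⟩

/-- `β` is a combination of caps of pullbacks, up to rational equivalence. -/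
def Good (f : P ⟶ X) (δP : P → ℤ) (δX : X → ℤ) (n : ℕ) (L : P.Modules)
    (σ : (ξ : P) → Cyc.secFibre L ξ) (k : ℤ) (β : AlgebraicCycle P ℤ) : Prop :=
  ∃ (α : Fin (n + 1) → AlgebraicCycle X ℤ) (c : Fin (n + 1) → ℕ → AlgebraicCycle P ℤ),
    (∀ i : Fin (n + 1), α i ∈ Cyc.Zk X δX (k + ((i : ℕ) : ℤ))) ∧
    (∀ i, ⇑(c i 0) = Cyc.pullFun f δP δX n ⇑(α i)) ∧
    (∀ i : Fin (n + 1), IsChain δP L (k + ((i : ℕ) : ℤ) + n) (fun _ => σ) (c i)) ∧
    Cyc.RatEquiv δP (k + n) β (∑ i, c i (i : ℕ))

variable {σ : (ξ : P) → Cyc.secFibre L ξ} {k : ℤ}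

theorem pullFun_zero (f : P ⟶ X) (δP : P → ℤ) (δX : X → ℤ) (n : ℕ) :
    Cyc.pullFun f δP δX n ⇑(0 : AlgebraicCycle X ℤ) = 0 :=
  funext fun x => by simp [FibLen.pullFun_apply]

theorem good_zero : Good f δP δX n L σ k 0 :=
  ⟨0, fun _ _ => 0, fun _ _ _ => rfl, fun _ => (pullFun_zero f δP δX n).symm,
    fun _ => Chain.isChain_zero _, by simpa using Ord.ratEquiv_refl δP (k + n) 0⟩

theorem Good.add {β β' : AlgebraicCycle P ℤ} (h : Good f δP δX n L σ k β)
    (h' : Good f δP δX n L σ k β') : Good f δP δX n L σ k (β + β') := by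
  obtain ⟨α, c, h1, h2, h3, h4⟩ := h
  obtain ⟨α', c', h1', h2', h3', h4'⟩ := h'
  refine ⟨fun i => α i + α' i, fun i m => c i m + c' i m, fun i x hx => ?_, fun i => funext fun x => ?_,
    fun i => (h3 i).add (h3' i), ?_⟩
  · show α i x + α' i x = 0
    rw [h1 i x hx, h1' i x hx, add_zero]
  · show c i 0 x + c' i 0 x = _
    rw [h2 i, h2' i, FibLen.pullFun_apply, FibLen.pullFun_apply, FibLen.pullFun_apply]
    simp only [Function.locallyFinsuppWithin.coe_add, Pi.add_apply]
    split_ifs <;> ring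
  · have := Ord.ratEquivZero_add h4 h4'
    rw [Cyc.RatEquiv, Finset.sum_add_distrib]
    convert this using 1
    abel

theorem Good.of_ratEquiv {β β' : AlgebraicCycle P ℤ} (h : Good f δP δX n L σ k β')
    (e : Cyc.RatEquiv δP (k + n) β β') : Good f δP δX n L σ k β := by
  obtain ⟨α, c, h1, h2, h3, h4⟩ := h
  exact ⟨α, c, h1, h2, h3, Ord.ratEquiv_trans e h4⟩

theorem good_single (j : Fin (n + 1)) {a : AlgebraicCycle X ℤ}
    (ha : a ∈ Cyc.Zk X δX (k + ((j : ℕ) : ℤ))) {c : ℕ → AlgebraicCycle P ℤ}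
    (h0 : ⇑(c 0) = Cyc.pullFun f δP δX n ⇑a)
    (hc : IsChain δP L (k + ((j : ℕ) : ℤ) + n) (fun _ => σ) c) :
    Good f δP δX n L σ k (c (j : ℕ)) := by
  classical
  refine ⟨fun i => if i = j then a else 0, fun i m => if i = j then c m else 0, fun i => ?_,
    fun i => ?_, fun i => ?_, ?_⟩
  · by_cases h : i = j
    · subst h
      simpa using ha
    · simp only [if_neg h]
      exact fun _ _ => rfl
  · by_cases h : i = j
    · simp only [if_pos h, h0]
    · simp only [if_neg h]
      exact (pullFun_zero f δP δX n).symm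
  · by_cases h : i = j
    · subst h
      simpa using hc
    · simp only [if_neg h]
      exact Chain.isChain_zero _
  · simp only [Finset.sum_ite_eq', Finset.mem_univ, if_true]
    exact Ord.ratEquiv_refl δP _ _

variable [IsLocallyNoetherian X] (D : Data f δP δX n L) (hP : Cyc.IsDimFun P δP)
  (hX : Cyc.IsDimFun X δX) (hL : PicF.IsInvertible L) [QuasiCompact f]
  (hδ : Cyc.DeltaCompat f δP δX)

include D hP hX hL hδ in
theorem good_of_dim (hσ : ∀ ξ, σ ξ ≠ 0)
    (hdiv : ∀ η i, i ≤ n → ∀ x, f x = η →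
      Cyc.secDivFun δP L (D.ζ η i) (σ (D.ζ η i)) x =
        if i < n then Set.indicator {D.ζ η (i + 1)} 1 x else 0) :
    ∀ b : ℕ, b ≤ n + 1 → ∀ β : AlgebraicCycle P ℤ, β ∈ Cyc.Zk P δP (k + n) →
      (∀ x, β x ≠ 0 → δX (f x) < k + b) → Good f δP δX n L σ k β := by
  classical
  intro b
  induction b with
  | zero =>
    intro _ β hβ hsupp
    have : β = 0 := Function.locallyFinsuppWithin.ext fun x => by
      by_contra h
      have h1 := hsupp x h
      have h2 := D.delta_le hP x
      have h3 : δP x = k + n := of_not_not fun hne => h (hβ x hne)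
      simp at h1
      omega
    exact this ▸ good_zero
  | succ j ih =>
    intro hb β hβ hsupp
    have hlvl : ∀ x, β x ≠ 0 → δP x = k + n ∧ δX (f x) ≤ k + j := fun x h =>
      ⟨of_not_not fun hne => h (hβ x hne), by have := hsupp x h; push_cast at this; omega⟩
    choose m κ hκ ξ g hg hgdiv using D.kill
    letI := hκ
    let ι : Type u := Σ x : {x : P // β x ≠ 0 ∧ δX (f x) = k + j}, κ x.1
    have hfib : ∀ η : X, ∃ V : X.Opens, η ∈ V ∧ ((⇑f ⁻¹' V) ∩ Function.support ⇑β).Finite := fun η => by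
      obtain ⟨_, ⟨V, hV, rfl⟩, hηV, -⟩ :=
        X.isBasis_affineOpens.exists_subset_of_mem_open (Set.mem_univ η) isOpen_univ
      exact ⟨V, hηV, β.locallyFiniteSupport.finite_inter_support_of_isCompact
        (f.isCompact_preimage hV.isCompact)⟩
    choose V hηV hVfin using hfib
    obtain ⟨R, hR⟩ := exists_cycle_of_family hP (ι := ι) (fun p => ξ p.1.1 p.2)
      (fun p => g p.1.1 p.2 ^ β p.1.1) fun z => by
        refine ⟨⇑f ⁻¹' V (f z), (V (f z)).2.preimage f.continuous, hηV _, ?_⟩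
        refine (((hVfin (f z)).preimage Subtype.val_injective.injOn).biUnion
          fun q _ => Set.finite_range (Sigma.mk (β := fun q => κ q.1) q)).subset ?_
        rintro ⟨⟨x, hx⟩, l⟩ ⟨w, hw, hwU⟩
        refine Set.mem_biUnion (x := ⟨x, hx⟩) (show x ∈ ⇑f ⁻¹' (V (f z) : Set X) ∩ Function.support ⇑β from ⟨?_, hx.1⟩) ⟨l, rfl⟩
        have h1 : ξ x l ∈ ⇑f ⁻¹' V (f z) := (specializes_iff_mem_closure.2 hw).mem_open
          ((V (f z)).2.preimage f.continuous) hwU
        show f x ∈ V (f z)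
        rw [← (hg x l).1]
        exact h1
    have hRZk : R ∈ Cyc.Zk P δP (k + n) := fun z hz => by
      rw [hR]
      refine finsum_eq_zero_of_forall_eq_zero fun p => by_contra fun h => hz ?_
      have h1 : δP z + 1 = δP (ξ p.1.1 p.2) := by
        by_contra hne
        exact h (dif_neg fun hc => hne hc.2)
      have h2 := (hg p.1.1 p.2).2.1
      have h3 := (hlvl _ p.1.2.1).1
      omega
    have hRrat : Cyc.RatEquivZero δP (k + n) R := by
      refine ⟨ι, fun p => ξ p.1.1 p.2, fun p => g p.1.1 p.2 ^ β p.1.1, fun p => ?_, fun p =>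
        zpow_ne_zero _ (hg _ _).2.2, fun z => ?_, hR⟩
      · rw [(hg p.1.1 p.2).2.1, (hlvl _ p.1.2.1).1]
      · refine ⟨⇑f ⁻¹' V (f z), (V (f z)).2.preimage f.continuous, hηV _, ?_⟩
        refine (((hVfin (f z)).preimage Subtype.val_injective.injOn).biUnion
          fun q _ => Set.finite_range (Sigma.mk (β := fun q => κ q.1) q)).subset ?_
        rintro ⟨⟨x, hx⟩, l⟩ ⟨w, hw, hwU⟩
        refine Set.mem_biUnion (x := ⟨x, hx⟩) (show x ∈ ⇑f ⁻¹' (V (f z) : Set X) ∩ Function.support ⇑β from ⟨?_, hx.1⟩) ⟨l, rfl⟩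
        have h1 : ξ x l ∈ ⇑f ⁻¹' V (f z) := (specializes_iff_mem_closure.2 hw).mem_open
          ((V (f z)).2.preimage f.continuous) hwU
        show f x ∈ V (f z)
        rw [← (hg x l).1]
        exact h1
    let aF : X → ℤ := fun η => if δX η = k + j then
      ∑ x ∈ (hVfin η).toFinset.filter (fun x => f x = η), β x * m x else 0
    let a : AlgebraicCycle X ℤ := ⟨aF, fun _ _ => trivial, fun η _ => by
      refine ⟨V η, (V η).2.mem_nhds (hηV η), ((hVfin η).image f).subset ?_⟩
      rintro y ⟨hy, hne⟩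
      obtain ⟨hk, hne⟩ : δX y = k + j ∧ _ ≠ (0 : ℤ) := ⟨by_contra fun h => hne (if_neg h),
        fun h => hne ((ite_eq_right_iff).2 fun _ => h)⟩
      obtain ⟨x, hx, -⟩ := Finset.exists_ne_zero_of_sum_ne_zero hne
      obtain ⟨hx, rfl⟩ := Finset.mem_filter.1 hx
      exact ⟨x, ⟨hy, ((hVfin _).mem_toFinset.1 hx).2⟩, rfl⟩⟩
    have ha : a ∈ Cyc.Zk X δX (k + j) := fun η hη => if_neg hη
    have hj : j ≤ n := by omega
    obtain ⟨p, hp, hp'⟩ := D.exists_pull hP ha
    obtain ⟨c, hc0, hc⟩ := Chain.exists_chain hP hL hp (fun _ => σ) fun _ => hσ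
    have hc0' : ⇑(c 0) = Cyc.pullFun f δP δX n ⇑a := by rw [hc0, hp']
    have hcj : Good f δP δX n L σ k (c j) := good_single (⟨j, by omega⟩ : Fin (n + 1)) ha hc0' hc
    have hval := D.cap_eq hP hX ha hdiv hc0' hc.succ
    have hrest : Good f δP δX n L σ k (β - R - c j) := by
      refine ih (by omega) _ (fun x hx => ?_) fun z hz => ?_
      · show β x - R x - c j x = 0
        rw [hβ x hx, hRZk x hx, (show c j x = 0 from hc.mem j x (by omega))]
        ring
      · by_contra hlt
        refine hz ?_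
        show β z - R z - c j z = 0
        have hterm : ∀ q : ι, Cyc.divFun δP (ξ q.1.1 q.2) (g q.1.1 q.2 ^ β q.1.1) z ≠ 0 →
            f q.1.1 = f z := fun q hq => by
          have hs : ξ q.1.1 q.2 ⤳ z := by
            by_contra hs
            exact hq (Ord.divFun_eq_zero_of_not_specializes δP _ _ _ hs)
          have hs' := hs.map f.continuous
          rw [(hg q.1.1 q.2).1] at hs'
          exact DimFun.eq_of_specializes_of_le hX hs' (by rw [q.1.2.2]; omega)
        rcases lt_or_ge (k + j) (δX (f z)) with hgt | hle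
        · have h1 : β z = 0 := by_contra fun h => by have := (hlvl z h).2; omega
          have h2 : R z = 0 := by
            rw [hR]
            refine finsum_eq_zero_of_forall_eq_zero fun q => by_contra fun h => ?_
            have h3 := q.1.2.2
            rw [hterm q h] at h3
            omega
          have h3 : c j z = 0 := by_contra fun h => by have := (hval j z).1 h; omega
          rw [h1, h2, h3]
          ring
        · have hk : δX (f z) = k + j := by omega
          let S : Finset {x : P // β x ≠ 0 ∧ δX (f x) = k + j} :=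
            ((hVfin (f z)).toFinset.filter (fun x => f x = f z)).subtype _
          have hsum : R z = ∑ q ∈ (S.sigma fun x => (Finset.univ : Finset (κ x.1)) : Finset ι),
              Cyc.divFun δP (ξ q.1.1 q.2) (g q.1.1 q.2 ^ β q.1.1) z := by
            rw [hR]
            refine finsum_eq_finsetSum_of_support_subset _ fun q hq => ?_
            have e := hterm q hq
            refine Finset.mem_sigma.2 ⟨Finset.mem_subtype.2 (Finset.mem_filter.2
              ⟨(hVfin _).mem_toFinset.2 ⟨?_, q.1.2.1⟩, e⟩), Finset.mem_univ _⟩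
            show f q.1.1 ∈ V (f z)
            rw [e]
            exact hηV _
          have hT : ∀ x ∈ (hVfin (f z)).toFinset.filter (fun x => f x = f z),
              β x ≠ 0 ∧ δX (f x) = k + j := fun x hx => by
            obtain ⟨hx, e⟩ := Finset.mem_filter.1 hx
            exact ⟨((hVfin _).mem_toFinset.1 hx).2, e ▸ hk⟩
          rw [Finset.sum_sigma, Finset.sum_subtype_of_mem (fun x : P => ∑ l,
            Cyc.divFun δP (ξ x l) (g x l ^ β x) z) hT] at hsum
          rw [Finset.sum_congr rfl (g := fun x => β x * (Set.indicator {x} (1 : P → ℤ) z) -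
            β x * m x * Set.indicator {D.ζ (f z) j} (1 : P → ℤ) z) fun x hx => ?_] at hsum
          swap
          · obtain ⟨hx0, hxk⟩ := hT x hx
            obtain ⟨-, e⟩ := Finset.mem_filter.1 hx
            simp only [C1.divFun_zpow hP _ _ (hg x _).2.2, Pi.smul_apply, smul_eq_mul]
            rw [← Finset.mul_sum]
            refine (congrArg (β x * ·) (hgdiv x z e.symm)).trans ?_
            rw [show (δX (f x) + n - δP x).toNat = j by rw [hxk, (hlvl x hx0).1]; omega, e]
            ring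
          rw [Finset.sum_sub_distrib, ← Finset.sum_mul] at hsum
          have h1 : ∑ x ∈ (hVfin (f z)).toFinset.filter (fun x => f x = f z),
              β x * Set.indicator {x} (1 : P → ℤ) z = β z := by
            rw [Finset.sum_eq_single z (fun x _ hne => by
              rw [Set.indicator_of_notMem (fun h => hne (Set.mem_singleton_iff.1 h).symm), mul_zero])
              fun hz' => ?_]
            · rw [Set.indicator_of_mem (Set.mem_singleton z), Pi.one_apply, mul_one]
            · have : β z = 0 := by_contra fun h => hz' (Finset.mem_filter.2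
                ⟨(hVfin _).mem_toFinset.2 ⟨hηV _, h⟩, rfl⟩)
              rw [this, zero_mul]
          have h2 : c j z = a (f z) * Set.indicator {D.ζ (f z) j} (1 : P → ℤ) z := by
            rw [(hval j z).2 hk]
            by_cases e : D.ζ (f z) j = z
            · rw [if_pos ⟨hj, e⟩, Set.indicator_of_mem (show z ∈ ({D.ζ (f z) j} : Set P) from e.symm),
                Pi.one_apply, mul_one]
            · rw [if_neg fun h => e h.2, Set.indicator_of_notMem fun h =>
                e (Set.mem_singleton_iff.1 h).symm, mul_zero]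
          rw [hsum, h1, h2, show a (f z) = ∑ x ∈ (hVfin (f z)).toFinset.filter (fun x => f x = f z),
            β x * m x from if_pos hk]
          ring
    refine (hrest.add hcj).of_ratEquiv ?_
    rw [Cyc.RatEquiv, show β - (β - R - c j + c j) = R by abel]
    exact hRrat

include D hP hX hL hδ in
/-- Every class is a combination of caps of pullbacks, for any sections. -/
theorem exists_span {β : AlgebraicCycle P ℤ} (hβ : β ∈ Cyc.Zk P δP (k + n))
    (t : Fin (n + 1) → ℕ → (ξ : P) → Cyc.secFibre L ξ) (ht : ∀ i m ξ, t i m ξ ≠ 0) :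
    ∃ (α : Fin (n + 1) → AlgebraicCycle X ℤ) (c : Fin (n + 1) → ℕ → AlgebraicCycle P ℤ),
      (∀ i : Fin (n + 1), α i ∈ Cyc.Zk X δX (k + ((i : ℕ) : ℤ))) ∧
      (∀ i, ⇑(c i 0) = Cyc.pullFun f δP δX n ⇑(α i)) ∧
      (∀ i : Fin (n + 1), IsChain δP L (k + ((i : ℕ) : ℤ) + n) (t i) (c i)) ∧
      Cyc.RatEquiv δP (k + n) β (∑ i, c i (i : ℕ)) := by
  obtain ⟨σ, hσ, hdiv⟩ := D.exists_sec hL
  obtain ⟨α, c, h1, h2, h3, h4⟩ := good_of_dim D hP hX hL hδ hσ hdiv (n + 1) le_rfl β hβ fun x hx => by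
    have h : δP x = k + n := of_not_not fun hne => hx (hβ x hne)
    obtain ⟨d, -, hd⟩ := hδ x
    push_cast
    omega
  choose c' h0' h3' using fun i : Fin (n + 1) => Chain.exists_chain hP hL
    (show c i 0 ∈ Cyc.Zk P δP (k + ((i : ℕ) : ℤ) + n) by simpa using (h3 i).mem 0) (t i) (ht i)
  refine ⟨α, c', h1, fun i => by rw [h0' i, h2 i], h3', Ord.ratEquiv_trans h4 ?_⟩
  rw [Cyc.RatEquiv, ← Finset.sum_sub_distrib]
  refine Finset.sum_induction _ _ (fun a b => Ord.ratEquivZero_add) (Ord.ratEquivZero_zero _ _)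
    fun i _ => ?_
  have := Chain.ratEquiv hP hL (fun _ => hσ) (ht i) (h3 i) (h3' i)
    (by rw [h0' i]; exact Ord.ratEquiv_refl δP _ _) (i : ℕ)
  rwa [show k + ((i : ℕ) : ℤ) + n - ((i : ℕ) : ℤ) = k + n by ring] at this

end Groth.Agent.Lib.Cyc.PB.Span
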