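import Groth.Agent.Lib.Cyc.AffFib.Affine
import Groth.Agent.Lib.Cyc.C1Indep

/-!
# Standard charts over a point
-/

set_option autoImplicit false
set_option linter.style.haveILetI false
universe u

open CategoryTheory CategoryTheory.Limits AlgebraicGeometry MvPolynomial

namespace Groth.Agent.Lib.Cyc.PB

open Groth.Agent.Lib Groth.Agent.Lib.Cyc

/-- The variables of the `l`-th chart. -/
abbrev Var {n : ℕ} (l : Fin (n + 1)) : Type := {k : Fin (n + 1) // k ≠ l}

/-- Standard charts of `p` over a neighbourhood of `η`, with the fundamental sections. -/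
structure Frame {P X : Scheme.{u}} (p : P ⟶ X) (L : P.Modules) (n : ℕ) (η : X) where
  A : CommRingCat.{u}
  b : Spec A ⟶ X
  b_open : IsOpenImmersion b
  a : Spec A
  ba : b a = η
  e : ∀ l : Fin (n + 1), Spec (CommRingCat.of (MvPolynomial (Var l) A)) ⟶ P
  e_open : ∀ l, IsOpenImmersion (e l)
  w : ∀ l, e l ≫ p = Spec.map (CommRingCat.ofHom (MvPolynomial.C : A →+* MvPolynomial (Var l) A)) ≫ b
  cover : ∀ x, p x = η → ∃ l, x ∈ Set.range (e l)
  mem_iff : ∀ (l : Fin (n + 1)) (k : Var l) z,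
    e l z ∈ Set.range (e k.1) ↔ (MvPolynomial.X k : MvPolynomial (Var l) A) ∉ z.asIdeal
  W : P.Opens
  W_mem : ∀ x, p x = η → x ∈ W
  σ : Fin (n + 1) → Γ(L, W)
  gen : ∀ l x (hx : x ∈ W), x ∈ Set.range (e l) →
    Submodule.span (P.presheaf.stalk x) {L.presheaf.germ W x hx (σ l)} = ⊤
  rel : ∀ (l : Fin (n + 1)) (k : Var l) z (hz : e l z ∈ W),
    ∃ c : P.presheaf.stalk (e l z),
      L.presheaf.germ W (e l z) hz (σ k.1) = c • L.presheaf.germ W (e l z) hz (σ l) ∧
      (e l).stalkMap z c = (Spec (CommRingCat.of (MvPolynomial (Var l) A))).presheaf.germ ⊤ z trivial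
        ((Scheme.ΓSpecIso (CommRingCat.of (MvPolynomial (Var l) A))).inv (MvPolynomial.X k))

namespace Frame

attribute [instance] Frame.b_open Frame.e_open

variable {P X : Scheme.{u}} {p : P ⟶ X} {L : P.Modules} {n : ℕ} {η : X} (F : Frame p L n η)

/-- The residue field at the point. -/
abbrev K : Type u := (Spec F.A).residueField F.a

/-- The evaluation at the point. -/
noncomputable def φ : F.A →+* F.K :=
  (Spec.preimage ((Spec F.A).fromSpecResidueField F.a)).hom

theorem specMap_φ : Spec.map (CommRingCat.ofHom F.φ) = (Spec F.A).fromSpecResidueField F.a :=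
  Spec.map_preimage _

theorem φ_eq_zero_iff (r : F.A) : F.φ r = 0 ↔ r ∈ F.a.asIdeal := by
  have h : Spec.map (CommRingCat.ofHom F.φ) (genericPoint (Spec (CommRingCat.of F.K))) = F.a := by
    rw [F.specMap_φ]
    exact Scheme.fromSpecResidueField_apply _ _
  conv_rhs => rw [← h]
  rw [genericPoint_eq_bot_of_affine]
  exact Iff.rfl

/-- The variables of the cell `L_j` in the `l`-th chart. -/
abbrev Idx {n : ℕ} (j : ℕ) (l : Fin (n + 1)) : Type := {k : Fin (n + 1) // j ≤ (k : ℕ) ∧ k ≠ l}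

/-- Setting the first variables to zero. -/
noncomputable def kill (j : ℕ) (l : Fin (n + 1)) :
    MvPolynomial (Var l) F.K →+* MvPolynomial (Idx j l) F.K :=
  eval₂Hom C fun k => if h : j ≤ (k.1 : ℕ) then MvPolynomial.X ⟨k.1, h, k.2⟩ else 0

/-- The equations of `L_j` in the `l`-th chart. -/
noncomputable def ψ (j : ℕ) (l : Fin (n + 1)) :
    MvPolynomial (Var l) F.A →+* MvPolynomial (Idx j l) F.K :=
  (F.kill j l).comp (MvPolynomial.map F.φ)

theorem kill_surjective (j : ℕ) (l : Fin (n + 1)) : Function.Surjective (F.kill j l) := by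
  intro q
  induction q using MvPolynomial.induction_on with
  | C r => exact ⟨C r, by simp [kill]⟩
  | add q q' hq hq' =>
    obtain ⟨r, rfl⟩ := hq
    obtain ⟨r', rfl⟩ := hq'
    exact ⟨r + r', map_add _ _ _⟩
  | mul_X q k hq =>
    obtain ⟨r, rfl⟩ := hq
    exact ⟨r * MvPolynomial.X ⟨k.1, k.2.2⟩, by simp [kill, k.2.1]⟩

theorem ker_kill_le (j : ℕ) (l : Fin (n + 1)) (I : Ideal (MvPolynomial (Var l) F.K))
    (h : ∀ k : Var l, (k.1 : ℕ) < j → (MvPolynomial.X k : MvPolynomial (Var l) F.K) ∈ I) :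
    RingHom.ker (F.kill j l) ≤ I := by
  intro q hq
  have key : (Ideal.Quotient.mk I).comp ((MvPolynomial.rename fun k : Idx j l =>
      (⟨k.1, k.2.2⟩ : Var l)).toRingHom.comp (F.kill j l)) = Ideal.Quotient.mk I := by
    refine MvPolynomial.ringHom_ext (fun r => by simp [kill]) fun k => ?_
    by_cases hk : j ≤ (k.1 : ℕ)
    · simp [kill, hk]
    · simp [kill, hk, (Ideal.Quotient.eq_zero_iff_mem).2 (h k (by omega))]
  have := DFunLike.congr_fun key q
  rw [RingHom.comp_apply, RingHom.comp_apply, RingHom.mem_ker.1 hq, map_zero, map_zero] at this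
  exact Ideal.Quotient.eq_zero_iff_mem.1 this.symm

theorem ψ_C (j : ℕ) (l : Fin (n + 1)) (r : F.A) : F.ψ j l (C r) = C (F.φ r) := by simp [ψ, kill]

theorem ψ_X (j : ℕ) (l : Fin (n + 1)) (k : Var l) :
    F.ψ j l (MvPolynomial.X k) = if h : j ≤ (k.1 : ℕ) then MvPolynomial.X ⟨k.1, h, k.2⟩ else 0 := by simp [ψ, kill]

theorem ψ_X_eq_zero_iff (j : ℕ) (l : Fin (n + 1)) (k : Var l) :
    F.ψ j l (MvPolynomial.X k) = 0 ↔ (k.1 : ℕ) < j := by
  rw [F.ψ_X]
  split_ifs with h
  · exact ⟨fun h' => absurd h' (X_ne_zero _), fun h' => absurd h' (by omega)⟩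
  · exact ⟨fun _ => by omega, fun _ => rfl⟩

/-- The cell `L_j` in the `l`-th chart. -/
noncomputable def c (j : ℕ) (l : Fin (n + 1)) :
    Spec (CommRingCat.of (MvPolynomial (Idx j l) F.K)) ⟶ P :=
  Spec.map (CommRingCat.ofHom (F.ψ j l)) ≫ F.e l

theorem isPullback (l : Fin (n + 1)) :
    IsPullback (Spec.map (CommRingCat.ofHom (MvPolynomial.map (σ := Var l) F.φ)))
      (Spec.map (CommRingCat.ofHom (MvPolynomial.C : F.K →+* MvPolynomial (Var l) F.K)))
      (Spec.map (CommRingCat.ofHom (MvPolynomial.C : F.A →+* MvPolynomial (Var l) F.A)))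
      (Spec.map (CommRingCat.ofHom F.φ)) := by
  algebraize [F.φ]
  let := MvPolynomial.algebraMvPolynomial (σ := Var l) (R := F.A) (S := F.K)
  exact isPullback_SpecMap_of_isPushout _ _ _ _
    (CommRingCat.isPushout_iff_isPushout.mpr inferInstance)

instance (j : ℕ) (l : Fin (n + 1)) : IsPreimmersion (Spec.map (CommRingCat.ofHom (F.ψ j l))) := by
  haveI : IsPreimmersion (Spec.map (CommRingCat.ofHom F.φ)) := F.specMap_φ ▸ inferInstance
  haveI : IsPreimmersion (Spec.map (CommRingCat.ofHom (MvPolynomial.map (σ := Var l) F.φ))) :=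
    AffFib.Fibre.isPreimmersion (F.isPullback l)
  haveI : IsClosedImmersion (Spec.map (CommRingCat.ofHom (F.kill j l))) :=
    IsClosedImmersion.spec_of_surjective _ (F.kill_surjective j l)
  rw [show CommRingCat.ofHom (F.ψ j l) = CommRingCat.ofHom (MvPolynomial.map F.φ) ≫
    CommRingCat.ofHom (F.kill j l) from rfl, Spec.map_comp]
  infer_instance

instance (j : ℕ) (l : Fin (n + 1)) : IsPreimmersion (F.c j l) := by
  unfold c
  infer_instance

theorem e_apply (l : Fin (n + 1)) (z : Spec (CommRingCat.of (MvPolynomial (Var l) F.A))) :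
    p (F.e l z) = η ↔ z.asIdeal.comap (C : F.A →+* MvPolynomial (Var l) F.A) = F.a.asIdeal := by
  rw [← Scheme.Hom.comp_apply, F.w, Scheme.Hom.comp_apply]
  refine ⟨fun h => ?_, fun h => ?_⟩
  · exact congrArg PrimeSpectrum.asIdeal (F.b.isOpenEmbedding.injective (h.trans F.ba.symm))
  · exact (congrArg F.b (PrimeSpectrum.ext h)).trans F.ba

theorem mem_ψ_iff (j : ℕ) (l : Fin (n + 1)) (q : Spec (CommRingCat.of (MvPolynomial (Idx j l) F.K)))
    (r : MvPolynomial (Var l) F.A) :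
    r ∈ (Spec.map (CommRingCat.ofHom (F.ψ j l)) q).asIdeal ↔ F.ψ j l r ∈ q.asIdeal := Iff.rfl

theorem p_c (j : ℕ) (l : Fin (n + 1)) (q : Spec (CommRingCat.of (MvPolynomial (Idx j l) F.K))) :
    p (F.c j l q) = η := by
  rw [c, Scheme.Hom.comp_apply, F.e_apply]
  ext r
  rw [Ideal.mem_comap, F.mem_ψ_iff, F.ψ_C, ← F.φ_eq_zero_iff]
  refine ⟨fun h => by_contra fun hne => ?_, fun h => by rw [h, C_0]; exact zero_mem _⟩
  exact q.isPrime.ne_top (Ideal.eq_top_of_isUnit_mem _ h ((isUnit_iff_ne_zero.2 hne).map C))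

theorem c_notMem {j : ℕ} {l k : Fin (n + 1)} (hjl : j ≤ (l : ℕ)) (hk : (k : ℕ) < j)
    (q : Spec (CommRingCat.of (MvPolynomial (Idx j l) F.K))) : F.c j l q ∉ Set.range (F.e k) := by
  rw [c, Scheme.Hom.comp_apply, F.mem_iff l ⟨k, fun e => by subst e; omega⟩, not_not, F.mem_ψ_iff,
    (F.ψ_X_eq_zero_iff j l _).2 hk]
  exact zero_mem _

theorem exists_c_eq {j : ℕ} {l : Fin (n + 1)} {x : P} (hx : p x = η) (hl : x ∈ Set.range (F.e l))
    (hlow : ∀ k : Fin (n + 1), (k : ℕ) < j → x ∉ Set.range (F.e k)) :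
    ∃ q, F.c j l q = x := by
  obtain ⟨z, rfl⟩ := hl
  have hz : Spec.map (CommRingCat.ofHom (MvPolynomial.C : F.A →+* MvPolynomial (Var l) F.A)) z =
      Spec.map (CommRingCat.ofHom F.φ) (genericPoint (Spec (CommRingCat.of F.K))) := by
    rw [F.specMap_φ]
    refine Eq.trans ?_ (Scheme.fromSpecResidueField_apply _ _).symm
    exact PrimeSpectrum.ext ((F.e_apply l z).1 hx)
  obtain ⟨w₀, hw₀, -⟩ := Scheme.Pullback.exists_preimage_pullback z _ hz
  obtain ⟨w, rfl⟩ : ∃ w, Spec.map (CommRingCat.ofHom (MvPolynomial.map (σ := Var l) F.φ)) w = z :=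
    ⟨(F.isPullback l).isoPullback.inv w₀, by
      rw [← hw₀, ← Scheme.Hom.comp_apply, (F.isPullback l).isoPullback_inv_fst]⟩
  have hw : RingHom.ker (F.kill j l) ≤ w.asIdeal := F.ker_kill_le j l _ fun k hk => by
    have := hlow k.1 hk
    rw [F.mem_iff l k, not_not] at this
    have h2 : MvPolynomial.map F.φ (MvPolynomial.X k) ∈ w.asIdeal := this
    simpa using h2
  obtain ⟨q, hq⟩ : w ∈ Set.range (PrimeSpectrum.comap (F.kill j l)) := by
    rw [range_comap_of_surjective _ _ (F.kill_surjective j l)]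
    exact hw
  refine ⟨q, ?_⟩
  rw [← hq]
  rfl

/-- The generic point of `L_j`. -/
noncomputable def pt (j : ℕ) : P :=
  F.c (min j n) ⟨min j n, by omega⟩
    (genericPoint (Spec (CommRingCat.of (MvPolynomial (Idx (min j n) ⟨min j n, by omega⟩) F.K))))

theorem pt_eq {j : ℕ} (hj : j ≤ n) : F.pt j = F.c j ⟨j, by omega⟩ (genericPoint _) := by
  have key : ∀ m (hm : m < n + 1), m = j →
      F.c m ⟨m, hm⟩ (genericPoint _) = F.c j ⟨j, by omega⟩ (genericPoint _) := by
    rintro m hm rfl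
    rfl
  exact key _ _ (min_eq_left hj)

theorem p_pt (j : ℕ) : p (F.pt j) = η := F.p_c _ _ _

theorem c_generic_mem {j : ℕ} {l k : Fin (n + 1)} (hk : j ≤ (k : ℕ)) (hkl : k ≠ l) :
    F.c j l (genericPoint _) ∈ Set.range (F.e k) := by
  rw [c, Scheme.Hom.comp_apply, F.mem_iff l ⟨k, hkl⟩, F.mem_ψ_iff, genericPoint_eq_bot_of_affine]
  intro h
  exact absurd ((F.ψ_X_eq_zero_iff j l ⟨k, hkl⟩).1 h) (by simp only; omega)

/-- `ζ_j` specializes to every point of `L_j`. -/
theorem pt_specializes {j : ℕ} (hj : j ≤ n) {x : P} (hx : p x = η)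
    (hlow : ∀ k : Fin (n + 1), (k : ℕ) < j → x ∉ Set.range (F.e k)) : F.pt j ⤳ x := by
  rw [F.pt_eq hj]
  set J : Fin (n + 1) := ⟨j, by omega⟩
  obtain ⟨l, hl⟩ := F.cover x hx
  have hjl : j ≤ (l : ℕ) := by
    by_contra h
    exact hlow l (by omega) hl
  by_cases e : l = J
  · subst e
    obtain ⟨q, rfl⟩ := F.exists_c_eq hx hl hlow
    exact (genericPoint_specializes q).map (F.c j J).continuous
  · obtain ⟨q, rfl⟩ := F.exists_c_eq hx hl hlow
    obtain ⟨q', hq'⟩ := F.exists_c_eq (F.p_c j l (genericPoint _))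
      (F.c_generic_mem (l := l) (k := J) le_rfl (Ne.symm e)) (fun k hk => F.c_notMem hjl hk _)
    refine ((hq' ▸ (genericPoint_specializes q').map (F.c j J).continuous)).trans ?_
    exact (genericPoint_specializes q).map (F.c j l).continuous

theorem pt_notMem {j : ℕ} (hj : j ≤ n) {k : Fin (n + 1)} (hk : (k : ℕ) < j) :
    F.pt j ∉ Set.range (F.e k) := by
  rw [F.pt_eq hj]
  exact F.c_notMem le_rfl hk _

theorem pt_mem_self {j : ℕ} (hj : j ≤ n) : F.pt j ∈ Set.range (F.e ⟨j, by omega⟩) := by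
  rw [F.pt_eq hj]
  exact ⟨_, (Scheme.Hom.comp_apply _ _ _).symm⟩

theorem notMem_of_specializes {j : ℕ} (hj : j ≤ n) {z : P} (h : F.pt j ⤳ z) {k : Fin (n + 1)}
    (hk : (k : ℕ) < j) : z ∉ Set.range (F.e k) := fun hz =>
  F.pt_notMem hj hk (h.mem_open (F.e k).isOpenEmbedding.isOpen_range hz)

/-- `ζ_j` is the generic point of `L_j` in every later chart. -/
theorem c_generic_eq {j : ℕ} (hj : j ≤ n) {l : Fin (n + 1)} (hl : j ≤ (l : ℕ)) :
    F.c j l (genericPoint _) = F.pt j := by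
  by_cases e : l = (⟨j, by omega⟩ : Fin (n + 1))
  · rw [e]
    exact (F.pt_eq hj).symm
  · refine (Specializes.antisymm ?_ (F.pt_specializes hj (F.p_c j l _) fun k hk => F.c_notMem hl hk _)).eq
    have hmem : F.pt j ∈ Set.range (F.e l) := by
      rw [F.pt_eq hj]
      exact F.c_generic_mem hl e
    obtain ⟨q, hq⟩ := F.exists_c_eq (F.p_pt j) hmem fun k hk => F.pt_notMem hj hk
    exact hq ▸ (genericPoint_specializes q).map (F.c j l).continuous

end Frame

end Groth.Agent.Lib.Cyc.PB
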