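import Groth.Agent.Lib.ProjSpace.Charts
import Groth.Agent.Lib.Cyc.PB.Frame
import Mathlib.AlgebraicGeometry.ProjectiveSpectrum.Basic
import Mathlib.RingTheory.MvPolynomial.Ideal

/-!
# Charts of the Proj of a graded ring isomorphic to a polynomial ring
-/

set_option autoImplicit false
set_option linter.style.haveILetI false
universe u

open CategoryTheory AlgebraicGeometry MvPolynomial HomogeneousLocalization
open scoped HomogeneousIdeal

namespace Groth.Agent.Lib.Cyc.PB

open Groth.Agent.Lib.ProjSpace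

/-- A graded ring presented as a polynomial ring. -/
structure Pres (A : Type u) [CommRing A] {B σ : Type u} [CommRing B] [SetLike σ B] [AddSubgroupClass σ B]
    (𝒜 : ℕ → σ) [GradedRing 𝒜] (n : ℕ) where
  θ : MvPolynomial (Fin (n + 1)) A →+* B
  bij : Function.Bijective θ
  mem : ∀ {d : ℕ} {q : MvPolynomial (Fin (n + 1)) A}, q.IsHomogeneous d → θ q ∈ 𝒜 d
  c₀ : A →+* 𝒜 0
  c₀_eq : ∀ a, (c₀ a : B) = θ (C a)

namespace Pres

variable {A : Type u} [CommRing A] {B σ : Type u} [CommRing B] [SetLike σ B] [AddSubgroupClass σ B]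
  {𝒜 : ℕ → σ} [GradedRing 𝒜] {n : ℕ} (T : Pres A 𝒜 n)

/-- The coordinates. -/
noncomputable def y (l : Fin (n + 1)) : B := T.θ (MvPolynomial.X l)

theorem y_mem (l : Fin (n + 1)) : T.y l ∈ 𝒜 1 := T.mem (isHomogeneous_X A l)

theorem exists_homogeneous {d : ℕ} {b : B} (hb : b ∈ 𝒜 d) :
    ∃ q : MvPolynomial (Fin (n + 1)) A, q.IsHomogeneous d ∧ T.θ q = b := by
  classical
  obtain ⟨q, rfl⟩ := T.bij.2 b
  refine ⟨homogeneousComponent d q, homogeneousComponent_isHomogeneous d q, ?_⟩
  have h1 : ∀ i, (DirectSum.decompose 𝒜 (T.θ (homogeneousComponent i q)) d : B) =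
      if i = d then T.θ (homogeneousComponent i q) else 0 := fun i => by
    split_ifs with h
    · exact h ▸ DirectSum.decompose_of_mem_same 𝒜 (T.mem (homogeneousComponent_isHomogeneous i q))
    · exact DirectSum.decompose_of_mem_ne 𝒜 (T.mem (homogeneousComponent_isHomogeneous i q)) h
  have h2 : (DirectSum.decompose 𝒜 (T.θ q) d : B) = T.θ q := DirectSum.decompose_of_mem_same 𝒜 hb
  conv_lhs at h2 => rw [← sum_homogeneousComponent q, map_sum, DirectSum.decompose_sum]
  rw [DFinsupp.finsetSum_apply, AddSubmonoidClass.coe_finsetSum, Finset.sum_congr rfl fun i _ => h1 i,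
    Finset.sum_ite_eq'] at h2
  split_ifs at h2 with h
  · exact h2
  · rw [← h2, homogeneousComponent_eq_zero _ _ (by simpa using h), map_zero]

theorem irrelevant_le : (HomogeneousIdeal.irrelevant 𝒜).toIdeal ≤ Ideal.span (Set.range T.y) := by
  rw [HomogeneousIdeal.toIdeal_irrelevant_le]
  intro d hd b hb
  obtain ⟨q, hq, rfl⟩ := T.exists_homogeneous hb
  have hq' : q ∈ Ideal.span (MvPolynomial.X '' (Set.univ : Set (Fin (n + 1)))) := by
    rw [mem_ideal_span_X_image]
    intro m hm
    by_contra h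
    have hm0 : m = 0 := Finsupp.ext fun i => by
      by_contra hi
      exact h ⟨i, trivial, hi⟩
    have := hq.degree_eq_sum_deg_support hm
    subst hm0
    simp at this
    omega
  have := Ideal.mem_map_of_mem T.θ hq'
  rw [Ideal.map_span] at this
  refine Ideal.span_mono ?_ this
  rintro _ ⟨_, ⟨i, -, rfl⟩, rfl⟩
  exact ⟨i, rfl⟩

theorem exists_notMem (z : ProjectiveSpectrum 𝒜) : ∃ l, T.y l ∉ z.asHomogeneousIdeal := by
  by_contra! h
  refine z.not_irrelevant_le fun b hb => ?_
  exact (Ideal.span_le (I := z.asHomogeneousIdeal.toIdeal)).2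
    (Set.range_subset_iff.2 h) (T.irrelevant_le hb)

/-- `A[T] → 𝒜_(y_l)`. -/
noncomputable def toAway (l : Fin (n + 1)) : MvPolynomial (Var l) A →+* Away 𝒜 (T.y l) :=
  eval₂Hom ((fromZeroRingHom 𝒜 (Submonoid.powers (T.y l))).comp T.c₀)
    fun k => Away.isLocalizationElem (T.y_mem l) (T.y_mem k.1)

theorem powers_le (l : Fin (n + 1)) :
    Submonoid.powers (MvPolynomial.X l : MvPolynomial (Fin (n + 1)) A) ≤
      (Submonoid.powers (T.y l)).comap T.θ := by
  rintro _ ⟨m, rfl⟩
  exact ⟨m, (map_pow T.θ _ m).symm⟩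

/-- The map of localizations. -/
noncomputable def locMap (l : Fin (n + 1)) :
    Localization.Away (MvPolynomial.X l : MvPolynomial (Fin (n + 1)) A) →+* Localization.Away (T.y l) :=
  IsLocalization.map _ T.θ (T.powers_le l)

theorem locMap_injective (l : Fin (n + 1)) : Function.Injective (T.locMap l) := by
  rw [injective_iff_map_eq_zero]
  intro z hz
  obtain ⟨⟨q, s⟩, hs⟩ := IsLocalization.surj
    (Submonoid.powers (MvPolynomial.X l : MvPolynomial (Fin (n + 1)) A)) z
  have h0 : algebraMap B (Localization.Away (T.y l)) (T.θ q) = 0 := by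
    have := congrArg (T.locMap l) hs
    rw [map_mul, hz, zero_mul, locMap, IsLocalization.map_eq] at this
    exact this.symm
  obtain ⟨⟨_, j, rfl⟩, hj⟩ := (IsLocalization.map_eq_zero_iff (Submonoid.powers (T.y l)) _ _).1 h0
  have hq : MvPolynomial.X l ^ j * q = 0 := T.bij.1 (by rw [map_zero, map_mul, map_pow]; exact hj)
  have hq' := congrArg (algebraMap _ (Localization.Away (MvPolynomial.X l : MvPolynomial (Fin (n + 1)) A))) hq
  rw [map_mul, map_zero, map_pow] at hq'
  have hu : IsUnit (algebraMap (MvPolynomial (Fin (n + 1)) A)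
      (Localization.Away (MvPolynomial.X l : MvPolynomial (Fin (n + 1)) A)) (MvPolynomial.X l)) :=
    IsLocalization.map_units _ (⟨MvPolynomial.X l, Submonoid.mem_powers _⟩ : Submonoid.powers
      (MvPolynomial.X l : MvPolynomial (Fin (n + 1)) A))
  rw [(hu.pow j).mul_right_eq_zero] at hq'
  simp only at hs
  rw [hq'] at hs
  exact (IsLocalization.map_units _ s).mul_left_eq_zero.1 hs

theorem val_toAway (l : Fin (n + 1)) (q : MvPolynomial (Var l) A) :
    (T.toAway l q).val = T.locMap l (Charts.fromPoly A l q).val := by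
  have h : (algebraMap (Away 𝒜 (T.y l)) (Localization.Away (T.y l))).comp (T.toAway l) =
      ((T.locMap l).comp (algebraMap _ _)).comp (Charts.fromPoly A l) := by
    refine MvPolynomial.ringHom_ext (fun a => ?_) fun k => ?_
    · simp only [toAway, RingHom.comp_apply, eval₂Hom_C, Charts.fromPoly_C,
        HomogeneousLocalization.algebraMap_apply, Charts.val_constHom, locMap]
      rw [IsLocalization.map_eq]
      rw [← Localization.mk_one_eq_algebraMap, ← T.c₀_eq]
      rfl
    · simp only [toAway, RingHom.comp_apply, eval₂Hom_X', Charts.fromPoly_X,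
        HomogeneousLocalization.algebraMap_apply, Charts.val_coord, locMap]
      rw [Localization.mk_eq_mk', IsLocalization.map_mk', Away.isLocalizationElem,
        Away.val_mk, Localization.mk_eq_mk']
      simp only [pow_one]
      rfl
  exact DFunLike.congr_fun h q

theorem toAway_bijective (l : Fin (n + 1)) : Function.Bijective (T.toAway l) := by
  refine ⟨fun a b h => ?_, fun z => ?_⟩
  · refine (Charts.fromPoly_bijective l).1 (HomogeneousLocalization.val_injective _ ?_)
    apply T.locMap_injective l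
    rw [← val_toAway, ← val_toAway, h]
  · obtain ⟨m, a, ha, rfl⟩ := Away.mk_surjective 𝒜 (d := 1) (T.y_mem l) z
    obtain ⟨q, hq, hqa⟩ := T.exists_homogeneous ha
    refine ⟨Charts.dehom A l q, HomogeneousLocalization.val_injective _ ?_⟩
    rw [val_toAway]
    erw [HomogeneousLocalization.Away.val_mk]
    rw [Localization.mk_eq_mk', IsLocalization.eq_mk'_iff_mul_eq, mul_comm]
    have h := congrArg (T.locMap l) (Charts.fromPoly_dehom_of_isHomogeneous l (m := m) (by simpa using hq))
    rw [map_mul, map_pow, locMap, IsLocalization.map_eq,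
      IsLocalization.map_eq, hqa] at h
    simp only [y, locMap] at h ⊢
    convert h using 2
    exact map_pow (algebraMap B (Localization.Away (T.θ (MvPolynomial.X l)))) _ m

/-- The chart of `Proj`. -/
noncomputable def chart (l : Fin (n + 1)) : Spec (CommRingCat.of (MvPolynomial (Var l) A)) ⟶ Proj 𝒜 :=
  Spec.map (CommRingCat.ofHom (RingEquiv.ofBijective _ (T.toAway_bijective l)).symm.toRingHom) ≫
    Proj.awayι 𝒜 (T.y l) (T.y_mem l) Nat.one_pos

instance (l : Fin (n + 1)) : IsOpenImmersion (T.chart l) := by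
  haveI : IsIso (CommRingCat.ofHom (RingEquiv.ofBijective _ (T.toAway_bijective l)).symm.toRingHom) :=
    (ConcreteCategory.isIso_iff_bijective _).2
      (RingEquiv.ofBijective _ (T.toAway_bijective l)).symm.bijective
  unfold chart
  infer_instance

theorem opensRange_chart (l : Fin (n + 1)) : (T.chart l).opensRange = Proj.basicOpen 𝒜 (T.y l) := by
  haveI : IsIso (CommRingCat.ofHom (RingEquiv.ofBijective _ (T.toAway_bijective l)).symm.toRingHom) :=
    (ConcreteCategory.isIso_iff_bijective _).2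
      (RingEquiv.ofBijective _ (T.toAway_bijective l)).symm.bijective
  exact (Scheme.Hom.opensRange_comp_of_isIso _ _).trans (Proj.opensRange_awayι _ _ _ _)

theorem range_chart (l : Fin (n + 1)) :
    Set.range (T.chart l) = (Proj.basicOpen 𝒜 (T.y l) : Set (Proj 𝒜)) := by
  rw [← T.opensRange_chart l]
  rfl

theorem mem_range_chart_iff (l : Fin (n + 1)) (z : Proj 𝒜) :
    z ∈ Set.range (T.chart l) ↔ T.y l ∉ (z : ProjectiveSpectrum 𝒜).asHomogeneousIdeal := by
  rw [T.range_chart]
  exact Iff.rfl

theorem cover (z : Proj 𝒜) : ∃ l, z ∈ Set.range (T.chart l) := by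
  obtain ⟨l, hl⟩ := T.exists_notMem z
  exact ⟨l, (T.mem_range_chart_iff l z).2 hl⟩

theorem chart_mem_iff (l : Fin (n + 1)) (k : Var l) (w : Spec (CommRingCat.of (MvPolynomial (Var l) A))) :
    T.chart l w ∈ Set.range (T.chart k.1) ↔ (MvPolynomial.X k : MvPolynomial (Var l) A) ∉ w.asIdeal := by
  rw [T.range_chart]
  set φ := (RingEquiv.ofBijective _ (T.toAway_bijective l)).symm
  have h : Proj.awayι 𝒜 (T.y l) (T.y_mem l) Nat.one_pos (Spec.map (CommRingCat.ofHom φ.toRingHom) w) ∈
      Proj.basicOpen 𝒜 (T.y k.1) ↔ φ (Away.isLocalizationElem (T.y_mem l) (T.y_mem k.1)) ∉ w.asIdeal := by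
    rw [← Scheme.Hom.mem_preimage, Proj.awayι_preimage_basicOpen 𝒜 (T.y_mem l) Nat.one_pos (T.y_mem k.1)
      Nat.one_pos]
    exact Iff.rfl
  refine h.trans ?_
  rw [show φ (Away.isLocalizationElem (T.y_mem l) (T.y_mem k.1)) = MvPolynomial.X k from ?_]
  rw [RingEquiv.symm_apply_eq, RingEquiv.ofBijective_apply, toAway, eval₂Hom_X']

theorem chart_toSpecZero (l : Fin (n + 1)) :
    T.chart l ≫ Proj.toSpecZero 𝒜 ≫ Spec.map (CommRingCat.ofHom T.c₀) =
      Spec.map (CommRingCat.ofHom (MvPolynomial.C : A →+* MvPolynomial (Var l) A)) := by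
  rw [chart, Category.assoc, Proj.awayι_toSpecZero_assoc, ← Spec.map_comp, ← Spec.map_comp]
  congr 1
  ext a : 2
  show (RingEquiv.ofBijective _ (T.toAway_bijective l)).symm (fromZeroRingHom 𝒜 _ (T.c₀ a)) = C a
  rw [RingEquiv.symm_apply_eq, RingEquiv.ofBijective_apply, toAway, eval₂Hom_C]
  rfl

end Pres

end Groth.Agent.Lib.Cyc.PB
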