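import Groth.Agent.Lib.Cyc.Gys.C1
import Groth.Agent.Lib.Cyc.C1Indep
import Groth.Agent.Lib.Cyc.C1K.Chow
import Groth.Agent.Lib.Cyc.PP.Div

/-!
# Iterated caps
-/

set_option autoImplicit false
set_option linter.style.haveILetI false
universe u

open CategoryTheory AlgebraicGeometry

namespace Groth.Agent.Lib.Cyc.PB.Chain

open Groth.Agent.Lib Groth.Agent.Lib.Cyc

variable {X : Scheme.{u}} {δ : X → ℤ} {L : X.Modules} {m : ℤ}

/-- `c (i+1) = c₁(L) ∩ c i`, computed with the sections `t i`. -/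
structure IsChain (δ : X → ℤ) (L : X.Modules) (m : ℤ) (t : ℕ → (ξ : X) → Cyc.secFibre L ξ)
    (c : ℕ → AlgebraicCycle X ℤ) : Prop where
  mem : ∀ i : ℕ, c i ∈ Cyc.Zk X δ (m - i)
  succ : ∀ i, ⇑(c (i + 1)) = Cyc.c1CapFun δ L ⇑(c i) (t i)

variable [IsLocallyNoetherian X]

theorem isChain_mk (hδ : Cyc.IsDimFun X δ) {t : ℕ → (ξ : X) → Cyc.secFibre L ξ}
    {c : ℕ → AlgebraicCycle X ℤ} (h0 : c 0 ∈ Cyc.Zk X δ m)
    (hs : ∀ i, ⇑(c (i + 1)) = Cyc.c1CapFun δ L ⇑(c i) (t i)) : IsChain δ L m t c := by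
  refine ⟨fun i => ?_, hs⟩
  induction i with
  | zero => simpa using h0
  | succ i ih =>
    refine Gys.C1.cap_mem (k := m - (i + 1 : ℕ)) hδ ?_ _ _ (hs i)
    rwa [show m - ((i + 1 : ℕ) : ℤ) + 1 = m - (i : ℤ) by push_cast; ring]

theorem exists_chain (hδ : Cyc.IsDimFun X δ) (hL : PicF.IsInvertible L) {α : AlgebraicCycle X ℤ}
    (hα : α ∈ Cyc.Zk X δ m) (t : ℕ → (ξ : X) → Cyc.secFibre L ξ) (ht : ∀ i ξ, t i ξ ≠ 0) :
    ∃ c, c 0 = α ∧ IsChain δ L m t c := by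
  have step : ∀ (i : ℕ) (a : {a : AlgebraicCycle X ℤ // a ∈ Cyc.Zk X δ (m - i)}),
      ∃ b : {b : AlgebraicCycle X ℤ // b ∈ Cyc.Zk X δ (m - (i + 1 : ℕ))},
        ⇑b.1 = Cyc.c1CapFun δ L ⇑a.1 (t i) := fun i a => by
    have ha : a.1 ∈ Cyc.Zk X δ (m - (i + 1 : ℕ) + 1) := by
      rw [show m - ((i + 1 : ℕ) : ℤ) + 1 = m - (i : ℤ) by push_cast; ring]
      exact a.2
    obtain ⟨γ, hγ⟩ := Gys.C1.exists_cap hδ hL ha (t i) (ht i)
    exact ⟨⟨γ, Gys.C1.cap_mem hδ ha (t i) γ hγ⟩, hγ⟩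
  choose nxt hnxt using step
  let c : ∀ i : ℕ, {a : AlgebraicCycle X ℤ // a ∈ Cyc.Zk X δ (m - i)} :=
    Nat.rec ⟨α, by simpa using hα⟩ nxt
  exact ⟨fun i => (c i).1, rfl, ⟨fun i => (c i).2, fun i => hnxt i (c i)⟩⟩

theorem IsChain.shift {t : ℕ → (ξ : X) → Cyc.secFibre L ξ} {c : ℕ → AlgebraicCycle X ℤ}
    (h : IsChain δ L m t c) (j : ℕ) :
    IsChain δ L (m - j) (fun i => t (j + i)) fun i => c (j + i) := by
  refine ⟨fun i => ?_, fun i => h.succ (j + i)⟩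
  have := h.mem (j + i)
  push_cast at this
  rwa [sub_sub]

omit [IsLocallyNoetherian X] in
theorem cap_zero (s : (ξ : X) → Cyc.secFibre L ξ) :
    Cyc.c1CapFun δ L ⇑(0 : AlgebraicCycle X ℤ) s = 0 := by
  funext x
  simp [Cyc.c1CapFun]

omit [IsLocallyNoetherian X] in
theorem isChain_zero (t : ℕ → (ξ : X) → Cyc.secFibre L ξ) :
    IsChain δ L m t fun _ => (0 : AlgebraicCycle X ℤ) :=
  ⟨fun _ _ _ => rfl, fun i => (cap_zero (t i)).symm⟩

theorem IsChain.add {t : ℕ → (ξ : X) → Cyc.secFibre L ξ} {c c' : ℕ → AlgebraicCycle X ℤ}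
    (h : IsChain δ L m t c) (h' : IsChain δ L m t c') : IsChain δ L m t fun i => c i + c' i := by
  refine ⟨fun i x hx => ?_, fun i => funext fun x => ?_⟩
  · show c i x + c' i x = 0
    rw [h.mem i x hx, h'.mem i x hx, add_zero]
  · rw [Gys.C1.c1Cap_add, Function.locallyFinsuppWithin.coe_add, Pi.add_apply, h.succ, h'.succ]

theorem isChain_sum {ι : Type*} {t : ℕ → (ξ : X) → Cyc.secFibre L ξ}
    (c : ι → ℕ → AlgebraicCycle X ℤ) (s : Finset ι) (h : ∀ a ∈ s, IsChain δ L m t (c a)) :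
    IsChain δ L m t fun i => ∑ a ∈ s, c a i := by
  classical
  induction s using Finset.induction_on with
  | empty => simpa using isChain_zero t
  | insert a s ha ih =>
    simp only [Finset.sum_insert ha]
    exact (h a (Finset.mem_insert_self a s)).add (ih fun b hb => h b (Finset.mem_insert_of_mem hb))

/-- Chains respect rational equivalence, whatever the sections. -/
theorem ratEquiv (hδ : Cyc.IsDimFun X δ) (hL : PicF.IsInvertible L)
    {t t' : ℕ → (ξ : X) → Cyc.secFibre L ξ} (ht : ∀ i ξ, t i ξ ≠ 0) (ht' : ∀ i ξ, t' i ξ ≠ 0)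
    {c c' : ℕ → AlgebraicCycle X ℤ} (h : IsChain δ L m t c) (h' : IsChain δ L m t' c')
    (h0 : Cyc.RatEquiv δ m (c 0) (c' 0)) : ∀ i : ℕ, Cyc.RatEquiv δ (m - i) (c i) (c' i) := by
  intro i
  induction i with
  | zero => simpa using h0
  | succ i ih =>
    set a : ℤ := m - ((i + 1 : ℕ) : ℤ) with ha
    have e : m - (i : ℤ) = a + 1 := by rw [ha]; push_cast; ring
    rw [e] at ih
    have hc' : c' i ∈ Cyc.Zk X δ (a + 1) := e ▸ h'.mem i
    have hd : c i - c' i ∈ Cyc.Zk X δ (a + 1) := fun x hx => by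
      show c i x - c' i x = 0
      rw [(e ▸ h.mem i : c i ∈ Cyc.Zk X δ (a + 1)) x hx, hc' x hx, sub_zero]
    obtain ⟨E, hE⟩ := Gys.C1.exists_cap hδ hL hd (t i) (ht i)
    obtain ⟨G, hG⟩ := Gys.C1.exists_cap hδ hL hc' (t i) (ht i)
    have r1 : Cyc.RatEquivZero δ a E := C1K.Chow.ratEquivZero_c1 hδ hL ih (t i) (ht i) E hE
    have r2 : Cyc.RatEquiv δ a G (c' (i + 1)) := C1Indep.ratEquiv_c1Cap hδ hL hc' (t i) (t' i)
      (fun ξ _ => ht i ξ) (fun ξ _ => ht' i ξ) hG (h'.succ i)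
    have hsum : c (i + 1) = E + G := Function.locallyFinsuppWithin.ext fun x => by
      rw [Function.locallyFinsuppWithin.coe_add, Pi.add_apply, h.succ, hE, hG,
        ← Gys.C1.c1Cap_add, sub_add_cancel]
    rw [Cyc.RatEquiv, hsum, add_sub_assoc]
    exact Ord.ratEquivZero_add r1 r2

end Groth.Agent.Lib.Cyc.PB.Chain
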