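import Groth.Agent.Lib.Cyc.PB.Chain
import Groth.Agent.Lib.Cyc.FibLen
import Groth.Agent.Lib.Cyc.Push
import Groth.Agent.Lib.Cyc.Residue
import Groth.Agent.Lib.Cyc.FP.Main

/-!
# Cycles on a scheme with projective-space-like fibres
-/

set_option autoImplicit false
set_option linter.style.haveILetI false
universe u

open CategoryTheory AlgebraicGeometry

namespace Groth.Agent.Lib.Cyc.PB

open Groth.Agent.Lib Groth.Agent.Lib.Cyc

variable {P X : Scheme.{u}}

/-- Every fibre has a flag `ζ η 0, …, ζ η n` cut out by sections of `L`, generating all cycles of the fibre. -/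
structure Data (f : P ⟶ X) (δP : P → ℤ) (δX : X → ℤ) (n : ℕ) (L : P.Modules) where
  ζ : X → ℕ → P
  fζ : ∀ η i, i ≤ n → f (ζ η i) = η
  dζ : ∀ η i, i ≤ n → δP (ζ η i) = δX η + n - i
  len : ∀ η, FibLen.fibLen f (ζ η 0) = 1
  gen : ∀ x, ζ (f x) 0 ⤳ x
  deg : ∀ η, f.residueDegree (ζ η n) = 1
  t : ∀ η i, Cyc.secFibre L (ζ η i)
  t_ne : ∀ η i, i ≤ n → t η i ≠ 0
  div : ∀ η i, i ≤ n → ∀ x, f x = η →
    Cyc.secDivFun δP L (ζ η i) (t η i) x =
      if i < n then Set.indicator {ζ η (i + 1)} 1 x else 0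
  kill : ∀ x, ∃ (m : ℤ) (κ : Type u) (_ : Fintype κ) (ξ : κ → P) (g : ∀ l, P.residueField (ξ l)),
    (∀ l, f (ξ l) = f x ∧ δP (ξ l) = δP x + 1 ∧ g l ≠ 0) ∧
    ∀ z, f z = f x → ∑ l, Cyc.divFun δP (ξ l) (g l) z =
      Set.indicator {x} 1 z - m * Set.indicator {ζ (f x) ((δX (f x) + n - δP x).toNat)} 1 z

namespace Data

variable {f : P ⟶ X} {δP : P → ℤ} {δX : X → ℤ} {n : ℕ} {L : P.Modules} (D : Data f δP δX n L)

open scoped Classical

include D in
theorem delta_le (hP : Cyc.IsDimFun P δP) (x : P) : δP x ≤ δX (f x) + n := by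
  have h := DimFun.le_of_specializes hP (D.gen x)
  rw [D.dζ _ 0 (Nat.zero_le n)] at h
  simpa using h

theorem eq_gen (hP : Cyc.IsDimFun P δP) (x : P) (h : δP x = δX (f x) + n) : D.ζ (f x) 0 = x :=
  DimFun.eq_of_specializes_of_le hP (D.gen x) (by rw [D.dζ _ 0 (Nat.zero_le n), h]; simp)

theorem unique {η η' : X} {i i' : ℕ} (hi : i ≤ n) (hi' : i' ≤ n) (e : D.ζ η i = D.ζ η' i') :
    η = η' ∧ i = i' := by
  have h1 : η = η' := by rw [← D.fζ η i hi, e, D.fζ η' i' hi']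
  subst h1
  have h2 := congrArg δP e
  rw [D.dζ η i hi, D.dζ η i' hi'] at h2
  exact ⟨rfl, by omega⟩

theorem exists_sec (hL : PicF.IsInvertible L) :
    ∃ s : (ξ : P) → Cyc.secFibre L ξ, (∀ ξ, s ξ ≠ 0) ∧
      ∀ η i, i ≤ n → ∀ x, f x = η →
        Cyc.secDivFun δP L (D.ζ η i) (s (D.ζ η i)) x =
          if i < n then Set.indicator {D.ζ η (i + 1)} 1 x else 0 := by
  have h : ∀ ξ : P, ∃ v : Cyc.secFibre L ξ, v ≠ 0 ∧ ∀ η i, i ≤ n → D.ζ η i = ξ → ∀ x, f x = η →
      Cyc.secDivFun δP L ξ v x = if i < n then Set.indicator {D.ζ η (i + 1)} 1 x else 0 := fun ξ => by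
    by_cases hξ : ∃ η i, i ≤ n ∧ D.ζ η i = ξ
    · obtain ⟨η, i, hi, rfl⟩ := hξ
      refine ⟨D.t η i, D.t_ne η i hi, fun η' i' hi' e x hx => ?_⟩
      obtain ⟨rfl, rfl⟩ := D.unique hi' hi e
      exact D.div _ _ hi x hx
    · obtain ⟨v, hv, -⟩ := C1Indep.exists_free_gen hL ξ
      exact ⟨Submodule.Quotient.mk v, C1Indep.mk_ne_zero hL ξ hv,
        fun η i hi e => absurd ⟨η, i, hi, e⟩ hξ⟩
  choose s hs hdiv using h
  exact ⟨s, hs, fun η i hi x hx => hdiv _ η i hi rfl x hx⟩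

/-- `f^*α` is supported on the generic points of the fibres. -/
theorem pullFun_eq (hP : Cyc.IsDimFun P δP) (α : X → ℤ) (x : P) :
    Cyc.pullFun f δP δX n α x = if D.ζ (f x) 0 = x then α (f x) else 0 := by
  rw [FibLen.pullFun_apply]
  by_cases h : D.ζ (f x) 0 = x
  · have hd : δP x = δX (f x) + n := by
      have := congrArg δP h
      rw [D.dζ _ 0 (Nat.zero_le n)] at this
      simpa using this.symm
    rw [if_pos hd, if_pos h, show FibLen.fibLen f x = 1 by rw [← h]; exact D.len _]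
    simp
  · rw [if_neg (fun hd => h (D.eq_gen hP x hd)), if_neg h]

include D in
theorem exists_pull [QuasiCompact f] (hP : Cyc.IsDimFun P δP) {m : ℤ} {α : AlgebraicCycle X ℤ}
    (hα : α ∈ Cyc.Zk X δX m) :
    ∃ c : AlgebraicCycle P ℤ, c ∈ Cyc.Zk P δP (m + n) ∧ ⇑c = Cyc.pullFun f δP δX n ⇑α := by
  refine ⟨⟨Cyc.pullFun f δP δX n ⇑α, fun _ _ => trivial, fun z _ => ?_⟩, fun x hx => ?_, rfl⟩
  · obtain ⟨_, ⟨V, hV, rfl⟩, hzV, -⟩ :=
      X.isBasis_affineOpens.exists_subset_of_mem_open (Set.mem_univ (f z)) isOpen_univ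
    have hfin : ((V : Set X) ∩ Function.support ⇑α).Finite :=
      α.locallyFiniteSupport.finite_inter_support_of_isCompact hV.isCompact
    refine ⟨⇑f ⁻¹' V, (V.2.preimage f.continuous).mem_nhds hzV,
      (hfin.image fun η => D.ζ η 0).subset ?_⟩
    rintro x ⟨hxV, hx⟩
    rw [Function.mem_support, D.pullFun_eq hP] at hx
    split_ifs at hx with h
    · exact ⟨f x, ⟨hxV, hx⟩, h⟩
    · exact absurd rfl hx
  · show Cyc.pullFun f δP δX n ⇑α x = 0
    rw [D.pullFun_eq hP]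
    split_ifs with h
    · refine hα _ fun e => hx ?_
      have := congrArg δP h
      rw [D.dζ _ 0 (Nat.zero_le n), e] at this
      simpa using this.symm
    · rfl

/-- The caps of a pullback by the flag sections. -/
theorem cap_eq (hP : Cyc.IsDimFun P δP) (hX : Cyc.IsDimFun X δX) {k : ℤ} {α : AlgebraicCycle X ℤ}
    (hα : α ∈ Cyc.Zk X δX k) {s : (ξ : P) → Cyc.secFibre L ξ}
    (hdiv : ∀ η i, i ≤ n → ∀ x, f x = η →
        Cyc.secDivFun δP L (D.ζ η i) (s (D.ζ η i)) x =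
          if i < n then Set.indicator {D.ζ η (i + 1)} 1 x else 0)
    {c : ℕ → AlgebraicCycle P ℤ} (h0 : ⇑(c 0) = Cyc.pullFun f δP δX n ⇑α)
    (hc : ∀ i, ⇑(c (i + 1)) = Cyc.c1CapFun δP L ⇑(c i) s) :
    ∀ (i : ℕ) (x : P), (c i x ≠ 0 → δX (f x) ≤ k) ∧
      (δX (f x) = k → c i x = if i ≤ n ∧ D.ζ (f x) i = x then α (f x) else 0) := by
  classical
  intro i
  induction i with
  | zero =>
    intro x
    rw [h0, D.pullFun_eq hP]
    refine ⟨fun hx => ?_, fun _ => by simp⟩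
    split_ifs at hx with h
    · exact (of_not_not fun hne => hx (hα _ hne)).le
    · exact absurd rfl hx
  | succ i ih =>
    intro x
    rw [hc]
    have hterm : ∀ ξ, c i ξ * Cyc.secDivFun δP L ξ (s ξ) x ≠ 0 →
        ξ ⤳ x ∧ c i ξ ≠ 0 := fun ξ h => ⟨by
      by_contra hs
      exact h (by rw [Cyc.secDivFun, dif_neg (fun hc => hs hc.1), mul_zero]),
      left_ne_zero_of_mul h⟩
    refine ⟨fun hx => ?_, fun hk => ?_⟩
    · obtain ⟨ξ, hξ⟩ : ∃ ξ, c i ξ * Cyc.secDivFun δP L ξ (s ξ) x ≠ 0 := by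
        by_contra! h
        exact hx (finsum_eq_zero_of_forall_eq_zero h)
      obtain ⟨hsp, hne⟩ := hterm ξ hξ
      exact (DimFun.le_of_specializes hX (hsp.map f.continuous)).trans ((ih ξ).1 hne)
    · have hval : ∀ ξ, c i ξ * Cyc.secDivFun δP L ξ (s ξ) x ≠ 0 → i ≤ n ∧ D.ζ (f x) i = ξ := by
        intro ξ hξ
        obtain ⟨hsp, hne⟩ := hterm ξ hξ
        have e : f ξ = f x := DimFun.eq_of_specializes_of_le hX (hsp.map f.continuous)
          (((ih ξ).1 hne).trans hk.ge)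
        rw [(ih ξ).2 (e ▸ hk)] at hne
        rw [← e]
        by_contra hc'
        exact hne (if_neg hc')
      change (∑ᶠ ξ, c i ξ * Cyc.secDivFun δP L ξ (s ξ) x) = _
      rw [finsum_eq_single _ (D.ζ (f x) i) fun ξ hξ => by_contra fun h => hξ (hval ξ h).2.symm]
      by_cases hi : i ≤ n
      · rw [(ih _).2 (by rw [D.fζ _ _ hi]; exact hk), hdiv _ _ hi x rfl, D.fζ _ _ hi,
          if_pos ⟨hi, rfl⟩]
        by_cases hin : i < n
        · rw [if_pos hin]
          by_cases hx : D.ζ (f x) (i + 1) = x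
          · rw [if_pos ⟨hin, hx⟩, Set.indicator_of_mem (show x ∈ ({D.ζ (f x) (i + 1)} : Set P) from hx.symm),
              Pi.one_apply, mul_one]
          · rw [if_neg fun h => hx h.2, Set.indicator_of_notMem fun h => hx (Set.mem_singleton_iff.1 h).symm,
              mul_zero]
        · rw [if_neg hin, if_neg fun h => hin h.1, mul_zero]
      · rw [if_neg fun h => hi (by omega), show c i (D.ζ (f x) i) * _ = 0 from
          by_contra fun h => hi (hval _ h).1]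

end Data

end Groth.Agent.Lib.Cyc.PB
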