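import Groth.Agent.Lib.Cyc.PB.FrameDim
import Groth.Agent.Lib.Cyc.PB.Span

/-!
# Divisors of the fundamental sections, and killing
-/

set_option autoImplicit false
set_option linter.style.haveILetI false
universe u

open CategoryTheory CategoryTheory.Limits AlgebraicGeometry MvPolynomial

namespace Groth.Agent.Lib.Cyc.PB.Frame

open Groth.Agent.Lib Groth.Agent.Lib.Cyc

variable {P X : Scheme.{u}} {p : P ⟶ X} {L : P.Modules} {n : ℕ} {η : X} (F : Frame p L n η)
  {δP : P → ℤ} {δX : X → ℤ}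

theorem ker_ψ_succ_le {j : ℕ} (l : Fin (n + 1)) (k₀ : Var l) (hk₀ : (k₀.1 : ℕ) = j)
    (r : MvPolynomial (Var l) F.A) (hr : F.ψ (j + 1) l r = 0) :
    r ∈ RingHom.ker (F.ψ j l) ⊔ Ideal.span {MvPolynomial.X k₀} := by
  classical
  let kA : MvPolynomial (Var l) F.A →+* MvPolynomial (Var l) F.A :=
    eval₂Hom C fun k => if k = k₀ then 0 else MvPolynomial.X k
  have h1 : (Ideal.Quotient.mk (Ideal.span {(MvPolynomial.X k₀ : MvPolynomial (Var l) F.A)})).comp kA =
      Ideal.Quotient.mk _ := by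
    refine MvPolynomial.ringHom_ext (fun a => by simp [kA]) fun k => ?_
    by_cases hk : k = k₀
    · subst hk
      simp [kA, (Ideal.Quotient.eq_zero_iff_mem).2 (Ideal.mem_span_singleton_self _)]
    · simp [kA, hk]
  have h2 : (F.ψ j l).comp kA = ((MvPolynomial.rename fun k : Idx (j + 1) l =>
      (⟨k.1, by have := k.2.1; omega, k.2.2⟩ : Idx j l)).toRingHom).comp (F.ψ (j + 1) l) := by
    refine MvPolynomial.ringHom_ext (fun a => by simp [kA, F.ψ_C]) fun k => ?_
    by_cases hk : k = k₀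
    · subst hk
      simp [kA, F.ψ_X, hk₀]
    · have hne : (k.1 : ℕ) ≠ j := fun e => hk (Subtype.ext (Fin.ext (e.trans hk₀.symm)))
      by_cases hj : j + 1 ≤ (k.1 : ℕ)
      · simp [kA, hk, F.ψ_X, hj, show j ≤ (k.1 : ℕ) by omega]
      · simp [kA, hk, F.ψ_X, hj, show ¬ j ≤ (k.1 : ℕ) by omega]
  have e1 : F.ψ j l (kA r) = 0 := by
    rw [← RingHom.comp_apply, h2, RingHom.comp_apply, hr, map_zero]
  have e2 : r - kA r ∈ Ideal.span {(MvPolynomial.X k₀ : MvPolynomial (Var l) F.A)} := by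
    rw [← Ideal.Quotient.eq_zero_iff_mem, map_sub, ← RingHom.comp_apply, h1, sub_self]
  rw [show r = kA r + (r - kA r) by ring]
  exact Ideal.add_mem _ (Ideal.mem_sup_left e1) (Ideal.mem_sup_right e2)

/-- The section `σ_j` at `ζ_j`. -/
noncomputable def sec {j : ℕ} (hj : j ≤ n) : Cyc.secFibre L (F.pt j) :=
  Submodule.Quotient.mk (L.presheaf.germ F.W (F.pt j) (F.W_mem _ (F.p_pt j)) (F.σ ⟨j, by omega⟩))

theorem sec_ne_zero (hL : PicF.IsInvertible L) {j : ℕ} (hj : j ≤ n) : F.sec hj ≠ 0 :=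
  C1Indep.mk_ne_zero hL _ (F.gen _ _ _ (F.pt_mem_self hj))

variable [IsLocallyNoetherian P] [IsLocallyNoetherian X]
  (hP : Cyc.IsDimFun P δP) (hX : Cyc.IsDimFun X δX) (hδ : Cyc.DeltaCompat p δP δX) (hL : PicF.IsInvertible L)

include hP hδ in
theorem eq_pt_succ {j : ℕ} (hj : j ≤ n) {z : P} (hz : p z = η) (hs : F.pt j ⤳ z)
    (hd : δP z + 1 = δP (F.pt j)) (hn : z ∉ Set.range (F.e ⟨j, by omega⟩)) :
    ∃ h : j < n, F.pt (j + 1) = z := by
  have hlow : ∀ k : Fin (n + 1), (k : ℕ) < j + 1 → z ∉ Set.range (F.e k) := fun k hk => by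
    rcases Nat.lt_succ_iff_lt_or_eq.1 hk with h | h
    · exact F.notMem_of_specializes hj hs h
    · rw [show k = (⟨j, by omega⟩ : Fin (n + 1)) from Fin.ext h]
      exact hn
  have hjn : j < n := by
    obtain ⟨l, hl⟩ := F.cover z hz
    by_contra h
    exact hlow l (by omega) hl
  refine ⟨hjn, DimFun.eq_of_specializes_of_le hP (F.pt_specializes hjn hz hlow) ?_⟩
  rw [F.delta_pt hP hδ (show j + 1 ≤ n from hjn)]
  rw [F.delta_pt hP hδ hj] at hd
  push_cast
  omega

include hP hδ hL in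
theorem secDiv {j : ℕ} (hj : j ≤ n) {z : P} (hz : p z = η) :
    Cyc.secDivFun δP L (F.pt j) (F.sec hj) z =
      if j < n then Set.indicator {F.pt (j + 1)} 1 z else 0 := by
  by_cases hc : F.pt j ⤳ z ∧ δP z + 1 = δP (F.pt j)
  swap
  · rw [Cyc.secDivFun, dif_neg hc]
    split_ifs with hjn
    · rw [Set.indicator_of_notMem]
      intro e
      rw [Set.mem_singleton_iff.1 e] at hc
      refine hc ⟨F.pt_specializes_succ hjn, ?_⟩
      rw [F.delta_pt hP hδ hjn, F.delta_pt hP hδ hj]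
      push_cast
      ring
    · rfl
  rw [Cyc.secDivFun, dif_pos hc]
  have hne := F.sec_ne_zero hL hj
  by_cases hzj : z ∈ Set.range (F.e ⟨j, by omega⟩)
  · have hg := F.gen ⟨j, by omega⟩ z (F.W_mem z hz) hzj
    have he : F.sec hj = (1 : P.presheaf.stalk (F.pt j)) • (Submodule.Quotient.mk
        (L.presheaf.stalkSpecializes hc.1 (L.presheaf.germ F.W z (F.W_mem z hz) (F.σ ⟨j, by omega⟩))) :
          Cyc.secFibre L (F.pt j)) := by
      rw [one_smul]
      exact congrArg Submodule.Quotient.mk (TopCat.Presheaf.germ_stalkSpecializes_apply _ _ _ _).symm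
    rw [C1Indep.secOrdAt_eq hP hL z (F.pt j) hc.1 hc.2.ge _ hne _ hg 1 he, map_one,
      Ord.ordAt_one hP z (F.pt j) hc.1 hc.2.ge]
    split_ifs with hjn
    · rw [Set.indicator_of_notMem fun e =>
        F.pt_notMem (j := j + 1) (k := ⟨j, by omega⟩) hjn (by simp) ((Set.mem_singleton_iff.1 e) ▸ hzj)]
    · rfl
  obtain ⟨hjn, rfl⟩ := F.eq_pt_succ hP hδ hj hz hc.1 hc.2 hzj
  rw [if_pos hjn, Set.indicator_of_mem (Set.mem_singleton _), Pi.one_apply]
  -- in the next chart
  obtain ⟨l, hl⟩ : ∃ l : Fin (n + 1), (l : ℕ) = j + 1 := ⟨⟨j + 1, by omega⟩, rfl⟩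
  let k₀ : Var l := ⟨⟨j, by omega⟩, fun e => by have := congrArg Fin.val e; simp only at this; omega⟩
  set u := Spec.map (CommRingCat.ofHom (F.ψ j l)) (genericPoint _) with hu
  set w := Spec.map (CommRingCat.ofHom (F.ψ (j + 1) l)) (genericPoint _) with hw
  have heu : F.e l u = F.pt j := F.c_generic_eq hj (by omega)
  have hew : F.e l w = F.pt (j + 1) := F.c_generic_eq hjn (by omega)
  suffices main : ∀ (ξ x : P) (h : ξ ⤳ x), F.e l u = ξ → F.e l w = x → δP x + 1 = δP ξ →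
      ∀ (hWu : ξ ∈ F.W) (hWx : x ∈ F.W),
      (Submodule.Quotient.mk (L.presheaf.germ F.W ξ hWu (F.σ ⟨j, by omega⟩)) : Cyc.secFibre L ξ) ≠ 0 →
      Cyc.secOrdAt L ξ x h (Submodule.Quotient.mk (L.presheaf.germ F.W ξ hWu (F.σ ⟨j, by omega⟩))) = 1 from
    main _ _ hc.1 heu hew hc.2 _ (F.W_mem _ (F.p_pt _)) hne
  clear hc hne heu hew hz hzj
  rintro ξ x h rfl rfl hd hWu hWw hne
  have hc : F.e l u ⤳ F.e l w ∧ δP (F.e l w) + 1 = δP (F.e l u) := ⟨h, hd⟩
  have hs : u ⤳ w := (PP.OpenImm.specializes_iff (F.e l)).1 hc.1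
  obtain ⟨c, hrel, hcT⟩ := F.rel l k₀ w hWw
  have hg := F.gen l (F.e l w) hWw ⟨w, rfl⟩
  have he : (Submodule.Quotient.mk (L.presheaf.germ F.W (F.e l u) hWu (F.σ k₀.1)) : Cyc.secFibre L (F.e l u)) =
      P.presheaf.stalkSpecializes hc.1 c • (Submodule.Quotient.mk
        (L.presheaf.stalkSpecializes hc.1 (L.presheaf.germ F.W (F.e l w) hWw (F.σ l))) :
          Cyc.secFibre L (F.e l u)) := by
    rw [← Submodule.Quotient.mk_smul, ← C1.stalkSpecializes_smul, ← hrel]
    exact congrArg Submodule.Quotient.mk (TopCat.Presheaf.germ_stalkSpecializes_apply _ _ _ _).symm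
  rw [C1Indep.secOrdAt_eq hP hL _ _ hc.1 hc.2.ge _ hne _ hg _ he]
  have hc0 := C1Indep.residue_ne_zero_of_smul hne he
  change Cyc.ordAt (F.e l w) (F.e l u) hc.1 (Cyc.specMap (F.e l w) (F.e l u) hc.1 c) = 1
  rw [Ord.ordAt_specMap hP _ _ hc.1 hc.2.ge c hc0, FP.Prime.ord_mk]
  suffices h : RingHom.ker (Cyc.specMap (F.e l w) (F.e l u) hc.1) ⊔ Ideal.span {c} =
      IsLocalRing.maximalIdeal _ by
    rw [h]
    haveI : IsSimpleModule (P.presheaf.stalk (F.e l w))
        (P.presheaf.stalk (F.e l w) ⧸ IsLocalRing.maximalIdeal (P.presheaf.stalk (F.e l w))) :=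
      isSimpleModule_iff_isCoatom.2 (IsLocalRing.maximalIdeal.isMaximal _).out
    rw [Module.length_eq_one]
    rfl
  set g := ((F.e l).stalkMap w).hom
  have hgb : Function.Bijective g := ConcreteCategory.bijective_of_isIso ((F.e l).stalkMap w)
  refine le_antisymm (sup_le (IsLocalRing.le_maximalIdeal (RingHom.ker_ne_top _)) ?_) ?_
  · rw [Ideal.span_singleton_le_iff_mem, IsLocalRing.mem_maximalIdeal, mem_nonunits_iff]
    intro hunit
    have h2 : IsUnit (g c) := hunit.map g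
    change IsUnit ((F.e l).stalkMap w c) at h2
    rw [hcT] at h2
    have h3 : IsUnit (algebraMap (MvPolynomial (Var l) F.A)
        ((AlgebraicGeometry.Spec.structureSheaf (MvPolynomial (Var l) F.A)).presheaf.stalk w) (MvPolynomial.X k₀)) := h2
    refine (IsLocalization.AtPrime.isUnit_to_map_iff _ w.asIdeal _).1 h3 ?_
    show F.ψ (j + 1) l (MvPolynomial.X k₀) ∈ (genericPoint
      (Spec (CommRingCat.of (MvPolynomial (Idx (j + 1) l) F.K)))).asIdeal
    rw [(F.ψ_X_eq_zero_iff (j + 1) l k₀).2 (by show j < j + 1; omega)]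
    exact zero_mem _
  · intro b hb
    have hgb' : g b ∈ (RingHom.ker (Cyc.specMap (F.e l w) (F.e l u) hc.1) ⊔ Ideal.span {c}).map g := by
      have h1 : g b ∈ IsLocalRing.maximalIdeal _ := fun hu' => hb (IsUnit.of_map g b hu')
      haveI := IsLocalization.AtPrime.isLocalRing
        ((AlgebraicGeometry.Spec.structureSheaf (MvPolynomial (Var l) F.A)).presheaf.stalk w) w.asIdeal
      have h1' : g b ∈ IsLocalRing.maximalIdeal
          ((AlgebraicGeometry.Spec.structureSheaf (MvPolynomial (Var l) F.A)).presheaf.stalk w) := h1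
      rw [← IsLocalization.AtPrime.map_eq_maximalIdeal w.asIdeal
        ((AlgebraicGeometry.Spec.structureSheaf (MvPolynomial (Var l) F.A)).presheaf.stalk w)] at h1'
      refine (Ideal.map_le_iff_le_comap.2 ?_) h1'
      intro r hr
      have hr' : F.ψ (j + 1) l r = 0 := by
        have := (F.mem_ψ_iff (j + 1) l (genericPoint _) r).1 hr
        rwa [genericPoint_eq_bot_of_affine] at this
      rw [Ideal.map_sup, Ideal.map_span, Set.image_singleton]
      obtain ⟨r₁, hr₁, r₂, hr₂, rfl⟩ := Submodule.mem_sup.1 (F.ker_ψ_succ_le l k₀ rfl r hr')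
      obtain ⟨t, rfl⟩ := Ideal.mem_span_singleton'.1 hr₂
      rw [Ideal.mem_comap]; erw [map_add, map_mul]
      refine Ideal.add_mem _ (Ideal.mem_sup_left ?_) (Ideal.mem_sup_right (Ideal.mul_mem_left _ _ ?_))
      · obtain ⟨a, ha⟩ := hgb.2 (algebraMap (MvPolynomial (Var l) F.A)
          ((AlgebraicGeometry.Spec.structureSheaf (MvPolynomial (Var l) F.A)).presheaf.stalk w) r₁)
        rw [← ha]
        refine Ideal.mem_map_of_mem _ (RingHom.mem_ker.2 ?_)
        refine (PP.OpenImm.residue_bijective (F.e l) u).1 ?_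
        refine (InducedDimFun.specMap_stalkMap (F.e l) u w hs a).symm.trans ?_
        rw [show (F.e l).stalkMap w a = _ from ha, map_zero]
        refine (Ord.specMap_germ ⊤ w u hs trivial
          ((Scheme.ΓSpecIso (CommRingCat.of (MvPolynomial (Var l) F.A))).inv r₁)).trans ?_
        by_contra hne'
        have := (Scheme.evaluation_ne_zero_iff_mem_basicOpen _ u (U := ⊤) trivial _).1 hne'
        rw [basicOpen_eq_of_affine] at this
        refine this ?_
        rw [hu, F.mem_ψ_iff, RingHom.mem_ker.1 hr₁]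
        exact zero_mem _
      · exact Ideal.subset_span (Set.mem_singleton_iff.2 hcT.symm)
    obtain ⟨a, ha, hab⟩ := (Ideal.mem_map_iff_of_surjective g hgb.2).1 hgb'
    exact hgb.1 hab ▸ ha

end Groth.Agent.Lib.Cyc.PB.Frame
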