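import Groth.Agent.Lib.Cyc.PB.Bundle
import Groth.Agent.Lib.Cyc.PB.FrameKill
import Groth.Prelude.Def_FlatMod2

/-!
# Cycles on projective bundles
-/

set_option autoImplicit false
set_option linter.style.haveILetI false
universe u

open CategoryTheory AlgebraicGeometry TopologicalSpace Opposite
open scoped HomogeneousIdeal

namespace Groth.Agent.Lib.Cyc.PB.Main

open Groth.Agent.Lib Groth.Agent.Lib.Cyc Groth.Agent.Lib.Cyc.PB

variable {X P : Scheme.{u}} [IsLocallyNoetherian X] {E : X.Modules} {n : ℕ}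
  {𝒮 : RelProj.QCGrAlg X} {j : E ⟶ 𝒮.toModule} {p : P ⟶ X}
  {chart : ∀ (U : X.Opens) (hU : IsAffineOpen U), (((p ⁻¹ᵁ U : P.Opens) : Scheme.{u}) ≅ Proj (𝒮.deg U hU))}
  {O1 : P.Modules}
  {lam : ∀ (U : X.Opens) (hU : IsAffineOpen U),
    O1 ⟶ (Scheme.Modules.pushforward (RelProj.emb p chart U hU)).obj (GrTwist.twist (𝒮.deg U hU) 1)}

theorem exists_pres (hE : FlatMod.IsFinLocFreeOfRank (n + 1) E) (hS : RelProj.IsGrSymAlg E 𝒮 j) (η : X) :
    ∃ (U : X.Opens) (hU : IsAffineOpen U) (T : Pres Γ(X, U) (𝒮.deg U hU) n), η ∈ U ∧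
      ∀ a, (T.c₀ a : 𝒮.presheaf.obj (op U)) = (𝒮.str.app (op U)).hom a := by
  obtain ⟨V, hηV, ⟨i⟩⟩ := hE η
  obtain ⟨e, he⟩ := TensorMod.Basis.exists_basis_of_iso i
  obtain ⟨_, ⟨U, hU, rfl⟩, hηU, hUV⟩ :=
    X.isBasis_affineOpens.exists_subset_of_mem_open hηV V.2
  replace hU : IsAffineOpen U := hU
  let e' := fun k => TensorMod.Dual.rs E (show U ≤ V from hUV) (e k)
  exact ⟨U, hU,
    { θ := SymPoly.θ (e := e') (𝒮 := 𝒮) (j := j)
      bij := SymPoly.θ_bijective hU (he.res _) hS.1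
      mem := fun hq => SymPoly.θ_mem hU (fun k => hS.2 U hU _) hq
      c₀ := (𝒮.strZero U hU).hom
      c₀_eq := fun a => (MvPolynomial.eval₂Hom_C _ _ a).symm }, hηU, fun a => rfl⟩

theorem exists_data [IsLocallyNoetherian P] [QuasiCompact p] {δP : P → ℤ} {δ : X → ℤ}
    (hX : Cyc.IsDimFun X δ) (hPd : Cyc.IsDimFun P δP) (hδ : Cyc.DeltaCompat p δP δ)
    (hE : FlatMod.IsFinLocFreeOfRank (n + 1) E) (hS : RelProj.IsGrSymAlg E 𝒮 j)
    (hP : RelProj.IsRelProj 𝒮 p chart) (hO1 : RelProj.IsRelTwist 𝒮 p chart 1 O1 lam)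
    (hinv : PicF.IsInvertible O1) : Nonempty (Data p δP δ n O1) :=
  PB.exists_data hPd hX hδ hinv fun η => by
    obtain ⟨U, hU, T, hη, hc⟩ := exists_pres hE hS η
    exact nonempty_frame hP hO1 hU T hc η hη

/-- A projective bundle is flat. -/
theorem flat (hE : FlatMod.IsFinLocFreeOfRank (n + 1) E) (hS : RelProj.IsGrSymAlg E 𝒮 j)
    (hP : RelProj.IsRelProj 𝒮 p chart) : Flat p := by
  refine Flat.of_stalkMap p fun x => ?_
  obtain ⟨U, hU, T, hη, hc⟩ := exists_pres hE hS (p x)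
  obtain ⟨z, rfl⟩ : x ∈ Set.range (RelProj.emb p chart U hU) := by
    rw [emb_range hU]; exact hη
  obtain ⟨l, w, rfl⟩ := T.cover z
  set g := T.chart l ≫ RelProj.emb p chart U hU
  haveI : Flat (Spec.map (CommRingCat.ofHom
      (MvPolynomial.C : Γ(X, U) →+* MvPolynomial (Var l) Γ(X, U)))) := by
    rw [HasRingHomProperty.Spec_iff (P := @Flat)]
    exact (RingHom.flat_algebraMap_iff (R := Γ(X, U)) (S := MvPolynomial (Var l) Γ(X, U))).2 inferInstance
  haveI : Flat (g ≫ p) := by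
    rw [chart_w hP hU T hc l]
    infer_instance
  have h := Flat.stalkMap (g ≫ p) w
  rw [Scheme.Hom.stalkMap_comp] at h
  have h2 : (inv (g.stalkMap w)).hom.Flat :=
    RingHom.Flat.of_bijective (ConcreteCategory.bijective_of_isIso _)
  have h3 := RingHom.Flat.comp h h2
  have h4 : (p.stalkMap (g w)).hom.Flat := by
    rw [show p.stalkMap (g w) = (p.stalkMap (g w) ≫ g.stalkMap w) ≫ inv (g.stalkMap w) by simp]
    exact h3
  exact h4

end Groth.Agent.Lib.Cyc.PB.Main
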