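import Groth.Prelude.Def_RelProj2
import Groth.Agent.Lib.TensorMod.Basis
import Groth.Agent.Lib.RelSpecBasics.Gamma
import Mathlib.RingTheory.MvPolynomial.Homogeneous

/-!
# The symmetric algebra of a free module is the polynomial algebra
-/

set_option autoImplicit false
universe u

open CategoryTheory CategoryTheory.Limits AlgebraicGeometry TopologicalSpace Opposite

namespace Groth.Agent.Lib.Cyc.PB.Sym

open Groth.Agent.Lib.TensorMod.Dual Groth.Agent.Lib.TensorMod.Basis
open Groth.Agent.Lib.TensorMod.HomGlue (rs_app)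

variable {X : Scheme.{u}} {E : X.Modules} {U : X.Opens} {r : ℕ} {e : Fin r → Γ(E, U)}

/-- Module maps to an algebra determined by its restriction to `U` are given by the values on a basis. -/
theorem hom_ext_of_basis (he : IsBasis e) (B : RelSpec.QCAlg X)
    (hB : ∀ W : X.Opens, Function.Injective (B.presheaf.map (homOfLE (inf_le_left : W ⊓ U ≤ W)).op))
    {φ φ' : E ⟶ B.toModule} (h : ∀ i, φ.app U (e i) = φ'.app U (e i)) : φ = φ' := by
  refine Scheme.Modules.hom_ext _ _ fun W => ?_
  ext x
  apply hB W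
  show rs B.toModule inf_le_left (φ.app W x) = rs B.toModule inf_le_left (φ'.app W x)
  rw [rs_app, rs_app]
  obtain ⟨a, ha⟩ := (he (W ⊓ U) inf_le_right).2 (rs E inf_le_left x)
  rw [← ha, app_comb, app_comb]
  simp only [h]

/-- Existence. -/
theorem exists_hom_of_basis (he : IsBasis e) (B : RelSpec.QCAlg X)
    (hB : ∀ W : X.Opens, Function.Bijective (B.presheaf.map (homOfLE (inf_le_left : W ⊓ U ≤ W)).op))
    (v : Fin r → Γ(B.toModule, U)) : ∃ φ : E ⟶ B.toModule, ∀ i, φ.app U (e i) = v i := by
  classical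
  choose co hco using fun (W : X.Opens) (x : Γ(E, W)) => (he (W ⊓ U) inf_le_right).2 (rs E inf_le_left x)
  have hres : ∀ W : X.Opens, Function.Bijective (rs B.toModule (inf_le_left : W ⊓ U ≤ W)) := hB
  let F : ∀ W : X.Opens, Γ(E, W) → Γ(B.toModule, W) := fun W x =>
    (Equiv.ofBijective _ (hres W)).symm (comb v inf_le_right (co W x))
  have hF : ∀ W x, rs B.toModule (inf_le_left : W ⊓ U ≤ W) (F W x) = comb v inf_le_right (co W x) :=
    fun W x => (Equiv.ofBijective _ (hres W)).apply_symm_apply _
  have hco' : ∀ W x a, comb e (inf_le_right : W ⊓ U ≤ U) a = rs E inf_le_left x → co W x = a :=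
    fun W x a ha => (he (W ⊓ U) inf_le_right).1 ((hco W x).trans ha.symm)
  have hadd : ∀ W x y, F W (x + y) = F W x + F W y := fun W x y => (hres W).1 (by
    have e0 : co W (x + y) = co W x + co W y := hco' W (x + y) _ (by
      simp only [comb, Pi.add_apply, add_smul, Finset.sum_add_distrib]
      exact (congrArg₂ (· + ·) (hco W x) (hco W y)).trans (map_add _ x y).symm)
    refine Eq.trans ?_ (map_add (B.toModule.presheaf.map (homOfLE (inf_le_left : W ⊓ U ≤ W)).op).hom _ _).symm
    show rs B.toModule _ (F W (x + y)) = rs B.toModule _ (F W x) + rs B.toModule _ (F W y)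
    rw [hF, hF, hF, e0]
    simp only [comb, Pi.add_apply, add_smul, Finset.sum_add_distrib])
  have hsmul : ∀ W (a : Γ(X, W)) x, F W (a • x) = a • F W x := fun W a x => (hres W).1 (by
    rw [rs_smul, hF, hF, hco' W (a • x) (fun k => rf inf_le_left a * co W x k) (by
      rw [rs_smul, ← hco W x]
      simp only [comb, mul_smul, Finset.smul_sum])]
    simp only [comb, mul_smul, Finset.smul_sum])
  have hnat : ∀ {V W : X.Opens} (i : V ≤ W) (x : Γ(E, W)), F V (rs E i x) = rs B.toModule i (F W x) :=
    fun {V W} i x => (hres V).1 (by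
      have hi : V ⊓ U ≤ W ⊓ U := inf_le_inf_right U i
      rw [hF, rs_rs, hco' V (rs E i x) (fun k => rf hi (co W x k)) (by
        rw [← rs_comb e inf_le_right hi, hco, rs_rs, rs_rs])]
      rw [← rs_comb v inf_le_right hi, ← hF, rs_rs])
  refine ⟨⟨PresheafOfModules.homMk
    { app := fun W => AddCommGrpCat.ofHom (AddMonoidHom.mk' (F W.unop) (hadd W.unop))
      naturality := fun V W i => by
        ext x
        exact hnat i.unop.le x }
    fun W a x => hsmul W.unop a x⟩, fun i => ?_⟩
  refine (hres U).1 ?_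
  show rs B.toModule inf_le_left (F U (e i)) = _
  rw [hF, hco' U (e i) (fun k => if k = i then 1 else 0) (by simp [comb])]
  simp [comb]

section

variable {Y : Scheme.{u}} (f : Y ⟶ X) [QuasiCompact f] [QuasiSeparated f]

theorem restr_bijective (hf : f ⁻¹ᵁ U = ⊤) (W : X.Opens) :
    Function.Bijective ((RelSpec.QCAlg.directImage f).presheaf.map
      (homOfLE (inf_le_left : W ⊓ U ≤ W)).op) := by
  have h : f ⁻¹ᵁ W = f ⁻¹ᵁ (W ⊓ U) := by rw [Scheme.Hom.preimage_inf, hf, inf_top_eq]
  haveI : IsIso (Y.presheaf.map (eqToHom h.symm).op) := inferInstance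
  exact ConcreteCategory.bijective_of_isIso (Y.presheaf.map (eqToHom h.symm).op)

end

end Groth.Agent.Lib.Cyc.PB.Sym
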